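import Cfsg.Agent.U42F.Defs
import Cfsg.Agent.U4F.U

set_option autoImplicit false
set_option linter.unusedSectionVars false

namespace Cfsg.Agent.U42F

open FK DIH
open RFS (Au)
open SR3 (nm ce)
open Subgroup

variable {G : Type*} [Group G] [Finite G] {u : H →* G}

namespace Iso

/-- bit `i` of the coordinates of `x` -/
def bt (x : H) (i : ℕ) : ZMod 2 := ((Nat.mod (Nat.shiftRight
  (nat_lit 0x1e73ef5f77ffedbcd3acb8c3b8e9867be5b66ba4b2a8a882d5577d94536d679c51269841f1c53432c904e18430228800)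
  (Nat.add (Nat.mul (nat_lit 6) x.v) i)) (nat_lit 2) : ℕ) : ZMod 2)

theorem bt_mul : ∀ x y : H, bt (x * y) 0 = bt x 0 + bt y 0 ∧ bt (x * y) 1 = bt x 1 + bt y 1 ∧
    bt (x * y) 2 = bt x 2 + bt y 2 ∧ bt (x * y) 3 = bt x 3 + bt y 3 + bt x 0 * bt y 2 ∧
    bt (x * y) 4 = bt x 4 + bt y 4 + bt x 1 * bt y 2 ∧
    bt (x * y) 5 = bt x 5 + bt y 5 + bt x 0 * bt y 4 + bt x 1 * bt y 3 +
      bt y 2 * (bt x 0 * bt x 0 + bt x 0 * bt x 1 + bt x 1 * bt x 1) := by
  decide +kernel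

theorem cen : ∀ a : H, a * a = 1 → (∀ i < D.N, a * PM.el D (2 ^ i) = PM.el D (2 ^ i) * a) → bt a 5 = 0 → a = 1 := by
  decide +kernel

end Iso

open Iso U5F in
theorem iso {K : Type*} [Field K] [U5F.Bar K] [CharP K 2] (hq : U5F.Bar.q K = 2) :
    Nonempty (H ≃* U4F.US K) := by
  obtain ⟨⟨w, hw⟩⟩ : Nonempty {x : K // x + σ x = 1} :=
    (Nat.card_pos_iff.1 (by rw [card_tr (map_one _), hq]; norm_num)).1
  have h2 : (2 : K) = 0 := CharTwo.two_eq_zero
  have w1 : σ w = w + 1 := by linear_combination hw - w * h2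
  have w2 : w ^ 2 + w = 1 := by rw [← hw, σ_apply, hq, add_comm]
  let ι : ZMod 2 →+* K := ZMod.castHom dvd_rfl K
  have hι : ∀ t, σ (ι t) = ι t := fun t => by
    rcases (by decide : ∀ t : ZMod 2, t = 0 ∨ t = 1) t with rfl | rfl <;> simp
  let f : H →* U4F.US K := MonoidHom.mk'
    (fun x => ⟨ι (bt x 0) + ι (bt x 1) * w, ι (bt x 2), ι (bt x 3) + ι (bt x 4) * w, ι (bt x 5), hι _, hι _⟩)
    fun x y => by
      obtain ⟨e0, e1, e2, e3, e4, e5⟩ := bt_mul x y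
      ext <;> simp only [U4F.US.mul_a, U4F.US.mul_b, U4F.US.mul_c, U4F.US.mul_d, e0, e1, e2, e3, e4, e5,
        map_add, map_mul, hι, w1]
      · ring
      · ring
      · generalize ι (bt x 0) = a0, ι (bt x 1) = a1, ι (bt y 2) = b, ι (bt y 3) = c0, ι (bt y 4) = c1
        linear_combination (-(a0 * c0 + a0 * c1 * w + a1 * c0 * w + a1 * c1 * (w ^ 2 + w) + b * a0 * a1 * w)) * h2 -
          b * a1 ^ 2 * w2
  have hi : Function.Injective f := PM.inj_of_center f fun a h1 h3 h4 =>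
    cen a h1 h3 (ι.injective ((congrArg U4F.US.d h4).trans (map_zero ι).symm))
  exact ⟨MulEquiv.ofBijective f ((Nat.bijective_iff_injective_and_card f).2
    ⟨hi, by rw [PM.card_eq, U4F.US.card_US, hq, N_eq]⟩)⟩

end Cfsg.Agent.U42F
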