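import Cfsg.Agent.U42F.Defs

/-! Project U42F: automorphisms of subgroups containing `J`.  See `notes/U42F.md`. -/

set_option autoImplicit false
set_option linter.unusedSectionVars false

namespace Cfsg.Agent.U42F

open FK DIH
open RFS (Au)
open SR3 (nm ce)
open Subgroup

variable {G : Type*} [Group G] [Finite G] {u : H →* G}

namespace Ext

set_option synthInstance.maxSize 4096 in
set_option synthInstance.maxHeartbeats 400000 in
theorem uJ : ∀ a : H, a * a = 1 → a ≠ 1 → ∀ b : H, b * b = 1 → a * b = b * a → b ≠ 1 → a * b ≠ 1 →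
    ∀ c : H, c * c = 1 → a * c = c * a → b * c = c * b → c ≠ 1 → a * c ≠ 1 → b * c ≠ 1 → a * b * c ≠ 1 →
    ∀ d : H, d * d = 1 → a * d = d * a → b * d = d * b → c * d = d * c → d ≠ 1 → a * d ≠ 1 → b * d ≠ 1 →
    a * b * d ≠ 1 → c * d ≠ 1 → a * c * d ≠ 1 → b * c * d ≠ 1 → a * b * c * d ≠ 1 →
    a ∈ sJ ∧ b ∈ sJ ∧ c ∈ sJ ∧ d ∈ sJ := by decide +kernel

theorem gJ : ∀ x ∈ sJ, ∃ i < 2, ∃ j < 2, ∃ k < 2, ∃ l < 2, x = e 1 ^ i * e 2 ^ j * e 4 ^ k * e 8 ^ l := by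
  decide +kernel

theorem cos : ∀ x : H, x ∈ sJ ∨ e 16 * x ∈ sJ ∨ e 32 * x ∈ sJ ∨ e 16 * e 32 * x ∈ sJ := by decide +kernel

theorem d1 : ∀ s ∈ [e 16, e 32, e 16 * e 32], s * s = 1 ∧
    ∀ k ∈ sJ, s * k * (s * k) = 1 → ∃ j ∈ sJ, s * k = j * s * j⁻¹ := by decide +kernel

theorem d2 : ∀ k ∈ sJ, e 16 * k * (e 16 * k) = 1 → ∀ k' ∈ sJ, e 32 * k' * (e 32 * k') = 1 →
    e 16 * k * (e 32 * k') = e 32 * k' * (e 16 * k) →
    ∃ j ∈ sJ, e 16 * k = j * e 16 * j⁻¹ ∧ e 32 * k' = j * e 32 * j⁻¹ := by decide +kernel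

end Ext

theorem chJ {E : Subgroup H} (hE : sJ ≤ E) {f : H → H} (hf : Au E f) : ∀ x ∈ sJ, f x ∈ sJ := by
  have f1 : f 1 = 1 := hf.one
  have m : ∀ {x y}, x ∈ sJ → y ∈ sJ → f x * f y = f (x * y) := fun hx hy => (hf.mul _ (hE hx) _ (hE hy)).symm
  have n : ∀ {x}, x ∈ sJ → x ≠ 1 → f x ≠ 1 := fun hx h e => h (hf.inj _ (hE hx) _ (one_mem _) (e.trans f1.symm))
  have sq : ∀ {x}, x ∈ sJ → x * x = 1 → f x * f x = 1 := fun hx e => by rw [m hx hx, e, f1]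
  have cm : ∀ {x y}, x ∈ sJ → y ∈ sJ → f x * f y = f y * f x := fun hx hy => by
    rw [m hx hy, m hy hx, comm_J _ hx _ hy]
  have n2 : ∀ {x y}, x ∈ sJ → y ∈ sJ → x * y ≠ 1 → f x * f y ≠ 1 := fun hx hy h => m hx hy ▸ n (mul_mem hx hy) h
  have n3 : ∀ {x y w}, x ∈ sJ → y ∈ sJ → w ∈ sJ → x * y * w ≠ 1 → f x * f y * f w ≠ 1 := fun hx hy hw h =>
    m hx hy ▸ n2 (mul_mem hx hy) hw h
  have a : e 1 ∈ sJ := e_J (by norm_num)
  have b : e 2 ∈ sJ := e_J (by norm_num)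
  have c : e 4 ∈ sJ := e_J (by norm_num)
  have d : e 8 ∈ sJ := e_J (by norm_num)
  obtain ⟨ka, kb, kc, kd⟩ := Ext.uJ _ (sq a (by decide +kernel)) (n a (by decide +kernel))
    _ (sq b (by decide +kernel)) (cm a b) (n b (by decide +kernel)) (n2 a b (by decide +kernel))
    _ (sq c (by decide +kernel)) (cm a c) (cm b c) (n c (by decide +kernel)) (n2 a c (by decide +kernel))
    (n2 b c (by decide +kernel)) (n3 a b c (by decide +kernel))
    _ (sq d (by decide +kernel)) (cm a d) (cm b d) (cm c d) (n d (by decide +kernel)) (n2 a d (by decide +kernel))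
    (n2 b d (by decide +kernel)) (n3 a b d (by decide +kernel)) (n2 c d (by decide +kernel))
    (n3 a c d (by decide +kernel)) (n3 b c d (by decide +kernel))
    (m a b ▸ n3 (mul_mem a b) c d (by decide +kernel))
  have p : ∀ {y}, y ∈ sJ → f y ∈ sJ → ∀ i < 2, f (y ^ i) ∈ sJ := fun hy h i hi => by
    interval_cases i
    · rw [pow_zero, f1]; exact one_mem _
    · rwa [pow_one]
  intro x hx
  obtain ⟨i, hi, j, hj, k, hk, l, hl, rfl⟩ := Ext.gJ x hx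
  rw [← m (mul_mem (mul_mem (pow_mem a _) (pow_mem b _)) (pow_mem c _)) (pow_mem d _),
    ← m (mul_mem (pow_mem a _) (pow_mem b _)) (pow_mem c _), ← m (pow_mem a _) (pow_mem b _)]
  exact mul_mem (mul_mem (mul_mem (p a ka i hi) (p b kb j hj)) (p c kc k hk)) (p d kd l hl)

theorem rigid {E : Subgroup H} (hE : sJ ≤ E) {f : H → H} (hm : ∀ x ∈ E, ∀ y ∈ E, f (x * y) = f x * f y)
    (h1 : ∀ x ∈ sJ, f x = x) : ∃ j ∈ sJ, ∀ x ∈ E, f x = j * x * j⁻¹ := by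
  have k0 : ∀ x ∈ E, ∃ k ∈ sJ, f x = x * k := fun x hx => ⟨x⁻¹ * f x, cen_J _ fun y hy => by
    have e1 := hm _ (hE (nm_J x y hy)) _ hx
    rw [inv_mul_cancel_right, hm _ hx _ (hE hy), h1 _ hy, h1 _ (nm_J x y hy)] at e1
    rw [mul_assoc, e1]; group, by rw [mul_inv_cancel_left]⟩
  have sq : ∀ {s}, s ∈ E → s * s = 1 → f s * f s = 1 := fun hs e => by rw [← hm _ hs _ hs, e, h1 _ (one_mem _)]
  have pJ : ∀ {j x}, j ∈ sJ → x ∈ sJ → f x = j * x * j⁻¹ := fun hj hx => by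
    rw [h1 _ hx, comm_J _ hj _ hx, mul_inv_cancel_right]
  have mE : ∀ {s x}, x ∈ E → s * x ∈ sJ → s ∈ E := fun hx h => (mul_mem_cancel_right hx).1 (hE h)
  have pS : ∀ {j s x}, j ∈ sJ → s * s = 1 → f s = j * s * j⁻¹ → x ∈ E → s * x ∈ sJ → f x = j * x * j⁻¹ :=
    fun {j s x} hj ss e hx h => by
      have := hm _ (mE hx h) _ (hE h)
      rwa [e, pJ hj h, conj_mul, ← mul_assoc s, ss, one_mul] at this
  have one : ∀ s ∈ [e 16, e 32, e 16 * e 32], s ∈ E → ∃ j ∈ sJ, f s = j * s * j⁻¹ := fun s hs h => by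
    obtain ⟨k, hk, e1⟩ := k0 s h
    rw [e1]
    exact (Ext.d1 s hs).2 k hk (e1 ▸ sq h (Ext.d1 s hs).1)
  have aa := (Ext.d1 (e 16) (by simp)).1
  have cc := (Ext.d1 (e 32) (by simp)).1
  have ac := (Ext.d1 (e 16 * e 32) (by simp)).1
  by_cases ha : e 16 ∈ E <;> by_cases hc : e 32 ∈ E
  · obtain ⟨k, hk, e1⟩ := k0 _ ha
    obtain ⟨k', hk', e2⟩ := k0 _ hc
    obtain ⟨j, hj, e3, e4⟩ := Ext.d2 k hk (e1 ▸ sq ha aa) k' hk' (e2 ▸ sq hc cc) (by
      rw [← e1, ← e2, ← hm _ ha _ hc, ← hm _ hc _ ha]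
      exact congrArg f (by decide +kernel))
    rw [← e1] at e3
    rw [← e2] at e4
    refine ⟨j, hj, fun x hx => ?_⟩
    rcases Ext.cos x with h | h | h | h
    exacts [pJ hj h, pS hj aa e3 hx h, pS hj cc e4 hx h,
      pS hj ac (by rw [hm _ ha _ hc, e3, e4, conj_mul]) hx h]
  · obtain ⟨j, hj, e3⟩ := one _ (by simp) ha
    refine ⟨j, hj, fun x hx => ?_⟩
    rcases Ext.cos x with h | h | h | h
    exacts [pJ hj h, pS hj aa e3 hx h, absurd (mE hx h) hc, absurd ((mul_mem_cancel_left ha).1 (mE hx h)) hc]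
  · obtain ⟨j, hj, e3⟩ := one _ (by simp) hc
    refine ⟨j, hj, fun x hx => ?_⟩
    rcases Ext.cos x with h | h | h | h
    exacts [pJ hj h, absurd (mE hx h) ha, pS hj cc e3 hx h, absurd ((mul_mem_cancel_right hc).1 (mE hx h)) ha]
  · by_cases hb : e 16 * e 32 ∈ E
    · obtain ⟨j, hj, e3⟩ := one _ (by simp) hb
      refine ⟨j, hj, fun x hx => ?_⟩
      rcases Ext.cos x with h | h | h | h
      exacts [pJ hj h, absurd (mE hx h) ha, absurd (mE hx h) hc, pS hj ac e3 hx h]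
    · refine ⟨1, one_mem _, fun x hx => ?_⟩
      rcases Ext.cos x with h | h | h | h
      exacts [pJ (one_mem _) h, absurd (mE hx h) ha, absurd (mE hx h) hc, absurd (mE hx h) hb]

theorem extJ (h : Sat 2 u) {E : Subgroup H} (hE : sJ ≤ E) {f : H → H} (hf : Au E f) (hi : In u sJ f) :
    In u E f := by
  have := Fact.mk Nat.prime_two
  obtain ⟨g, hg⟩ := hi
  have l := h.loc nm_J
  have hn : g ∈ nm (sJ.map u) := nm_of_ind (chJ hE hf) hg
  have h0 : H91.M (groupFusionSystem u.range) (sJ.map u) fun y => g * y * g⁻¹ :=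
    H91.M_group_iff.2 ⟨l.le, fun y hy => l.le (SR3.conj_mem hn hy), g, fun _ _ => rfl⟩
  obtain ⟨φ, hφ, e4⟩ := h0.extend (H91.mem_normalizer_iff_im_conj.1 hn)
    (H91.sat_receptive' l.pg h.sat (H91.isFullyNormalized_of_normal _ l.le l.norm))
    (R := E.map u) (by
      rintro _ ⟨x, hx, rfl⟩
      refine H91.mem_extSub.2 ⟨⟨⟨x, rfl⟩, l.norm ⟨x, rfl⟩⟩, u (f x), ⟨_, rfl⟩, ?_⟩
      rintro _ ⟨y, hy, rfl⟩
      rw [← map_inv, ← map_mul, ← map_mul, hg _ (nm_J x y hy), hg y hy, hf.map_conj hx (hE hy), map_mul, map_mul,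
        map_inv])
  obtain ⟨-, h1, g2, h2⟩ := H91.M_group_iff.1 hφ
  have ex : ∀ x, ∃ y, x ∈ E → g2 * u x * g2⁻¹ = u y := fun x => by
    by_cases hx : x ∈ E
    · obtain ⟨y, hy⟩ := h1 _ (mem_sup_right (mem_map_of_mem u hx))
      exact ⟨y, fun _ => by rw [hy, h2 _ (mem_sup_right (mem_map_of_mem u hx))]⟩
    · exact ⟨1, fun k => absurd k hx⟩
  choose f2 hf2 using ex
  obtain ⟨f', hf', e1, e2⟩ := hf.exists_inv
  obtain ⟨j, -, hj⟩ := rigid hE (f := fun x => f2 (f' x)) (fun x hx y hy => h.inj (by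
      have a := hf'.mem x hx
      have b := hf'.mem y hy
      rw [map_mul, hf'.mul x hx y hy, ← hf2 _ a, ← hf2 _ b, ← hf2 _ (mul_mem a b), map_mul, conj_mul]))
    fun x hx => h.inj (by
      have a := chJ hE hf' x hx
      rw [← hf2 _ (hE a), ← h2 _ (mem_sup_left (mem_map_of_mem u a)), e4 _ (mem_map_of_mem u a), hg _ a,
        e2 x (hE hx)])
  refine ⟨(u j)⁻¹ * g2, fun x hx => ?_⟩
  have := hj _ (hf.mem x hx)
  simp only [e1 x hx] at this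
  rw [mul_inv_rev, mul_assoc _ g2, mul_assoc, ← mul_assoc (g2 * u x), hf2 x hx, this, map_mul, map_mul, map_inv]
  group

end Cfsg.Agent.U42F
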