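import Cfsg.Agent.U42F.Defs
import Mathlib.LinearAlgebra.Matrix.GeneralLinearGroup.Card

set_option autoImplicit false
set_option linter.unusedSectionVars false

namespace Cfsg.Agent.U42F

open FK DIH
open RFS (Au)
open SR3 (nm ce)
open Subgroup

variable {G : Type*} [Group G] [Finite G] {u : H →* G}

namespace Mod1

/-- matrices of degree four over the field with two elements -/
abbrev MM : Type := Matrix (Fin 4) (Fin 4) (ZMod 2)

/-- the unitriangular matrix with a given code -/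
def M (n : ℕ) : MM := !![1, ↑(n / 16), ↑(n / 2) + ↑(n / 16) * ↑(n / 8), ↑n + ↑(n / 16) * ↑(n / 4);
  0, 1, ↑(n / 8), ↑(n / 4); 0, 0, 1, ↑(n / 32); 0, 0, 0, 1]

theorem M_inv : ∀ x : H, M x.v * M x⁻¹.v = 1 ∧ M x⁻¹.v * M x.v = 1 := by decide +kernel

theorem M_mul : ∀ i < 6, ∀ x : H, M (x * e (2 ^ i)).v = M x.v * M (e (2 ^ i)).v := by decide +kernel

/-- the embedding in the general linear group -/
noncomputable def w : H →* MMˣ := PM.homOf (fun x => ⟨M x.v, M x⁻¹.v, (M_inv x).1, (M_inv x).2⟩)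
  (Units.ext (show M (1 : H).v = 1 by decide +kernel)) fun i hi x => Units.ext (M_mul i hi x)

theorem w_inj : Function.Injective w := (injective_iff_map_eq_one w).2 fun x h =>
  (show ∀ x : H, M x.v = 1 → x = 1 by decide +kernel) x (congrArg Units.val h)

theorem idx : ¬ 2 ∣ w.range.index := by
  have h1 := w.range.index_mul_card
  rw [PM.card_range w_inj, N_eq, show Nat.card MMˣ = 20160 from
    (Matrix.card_GL_field 4).trans (by simp [Fin.prod_univ_succ])] at h1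
  omega

theorem conj {g : MMˣ} {x y : H} (h : g.val * M x.v = M y.v * g.val) : g * w x * g⁻¹ = w y :=
  mul_inv_eq_of_eq_mul (Units.ext h)

/-- the elements of order three of the Levi subgroups -/
def g1 : MMˣ := ⟨!![0, 1, 0, 0; 1, 1, 0, 0; 0, 0, 1, 0; 0, 0, 0, 1], !![1, 1, 0, 0; 1, 0, 0, 0; 0, 0, 1, 0; 0, 0, 0, 1],
  by decide +kernel, by decide +kernel⟩
def g2 : MMˣ := ⟨!![1, 0, 0, 0; 0, 1, 0, 0; 0, 0, 0, 1; 0, 0, 1, 1], !![1, 0, 0, 0; 0, 1, 0, 0; 0, 0, 1, 1; 0, 0, 1, 0],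
  by decide +kernel, by decide +kernel⟩
def g3 : MMˣ := ⟨!![1, 0, 0, 0; 0, 0, 1, 0; 0, 1, 1, 0; 0, 0, 0, 1], !![1, 0, 0, 0; 0, 1, 1, 0; 0, 1, 0, 0; 0, 0, 0, 1],
  by decide +kernel, by decide +kernel⟩

theorem e1 : ∀ x < 16, g1.val * M (e x).v = M (e (ap r1 x)).v * g1.val := by decide +kernel
theorem e2 : ∀ x < 16, g2.val * M (e x).v = M (e (ap r2 x)).v * g2.val := by decide +kernel
theorem e3 : ∀ x ∈ sQ, g3.val * M x.v = M (tau x).v * g3.val := by decide +kernel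

end Mod1

open Mod1 in
theorem mod1 : ∃ (X : Type) (_ : Group X) (_ : Finite X) (w : H →* X),
    Sat 2 w ∧ ¬ 2 ∣ w.range.index ∧ Gm w r1 ∧ Gm w r2 ∧ In w sQ tau := by
  have := Fact.mk Nat.prime_two
  have k : IsPGroup 2 w.range := PM.isPGroup.of_surjective _ w.rangeRestrict_surjective
  exact ⟨MMˣ, inferInstance, inferInstance, w, ⟨PM.isPGroup, w_inj, H92.saturated_group (k.toSylow idx)⟩, idx,
    ⟨g1, by norm_num, fun x hx => conj (e1 x hx)⟩, ⟨g2, by norm_num, fun x hx => conj (e2 x hx)⟩,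
    g3, fun x hx => conj (e3 x hx)⟩

end Cfsg.Agent.U42F
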