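import Cfsg.Agent.U42F.Ess
import Cfsg.Agent.S5087

set_option autoImplicit false
set_option linter.unusedSectionVars false

namespace Cfsg.Agent.U42F

open FK DIH
open RFS (Au)
open SR3 (nm ce)
open Subgroup

variable {G : Type*} [Group G] [Finite G] {u : H →* G}

theorem Nrm.ess' (h : Sat 2 u) {R : Subgroup G} (hR : (groupFusionSystem u.range).IsEssential 2 R) :
    ∃ A, R = A.map u ∧ Pr 2 u A (nm R) ∧ (A = sQ ∨ sJ ≤ A) :=
  ⟨_, (map_comap_eq_self hR.1.1).symm, h.pr hR, ess (h.pr hR)⟩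

theorem nrm (h : Sat 2 u) (hc : (groupFusionSystem u.range).core = ⊥) {B : Subgroup H}
    (h0 : ∀ F, Fa u ⊤ F → ∀ b ∈ B, F b ∈ B)
    (h1 : ∀ E L, Pr 2 u E L → (∃ f, Fa u E f ∧ ¬ Ext u E f) → B ≤ E ∧ ∀ f, Fa u E f → ∀ b ∈ B, f b ∈ B) :
    B = ⊥ := by
  have hn : (groupFusionSystem u.range).IsNormal (B.map u) :=
    H91.normal_of_essential h.pg_range h.sat (map_le_range u B) fun R hR => by
      obtain ⟨A, rfl, hB, hA⟩ : ∃ A : Subgroup H, R = A.map u ∧ B ≤ A ∧ ∀ f, Fa u A f → ∀ b ∈ B, f b ∈ B := by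
        rcases hR with rfl | hR
        · exact ⟨⊤, MonoidHom.range_eq_map u, le_top, h0⟩
        · obtain ⟨A, rfl, k, k'⟩ := Nrm.ess' h hR
          exact ⟨A, rfl, h1 A _ k (h.not_ext hR (k'.elim (fun e => e ▸ nm_Q) nm_of_J))⟩
      refine ⟨map_mono hB, fun α hα => ?_⟩
      obtain ⟨x, hx, rfl⟩ := (SR3.fus_mem_aut (map_le_range u A)).1 hα
      obtain ⟨φ, hφ, e⟩ := Fa.of_nm h.inj hx
      have k : x ∈ nm (B.map u) := nm_of_ind (hA φ hφ) fun b hb => e b (hB hb)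
      rw [H91.im_congr (g := H91.efn (H91.cjAut _ x k)) fun y hy => by
        rw [H91.efn_cjAut _ _ _ (map_mono hB hy), H91.efn_cjAut _ _ _ hy], H91.im_efn]
  exact (map_eq_bot_iff_of_injective _ h.inj).1 (eq_bot_iff.2 (hc ▸ H91.le_core hn))

theorem uniq {G' : Type*} [Group G'] [Finite G'] {u' : H →* G'} (h : Sat 2 u)
    (h0 : ∀ E, sJ ≤ E → ∀ f, Fa u E f → In u' E f) (hQ : ∀ f, Fa u sQ f → In u' sQ f) {X : Subgroup H}
    {f : H → H} (hf : In u X f) : In u' X f := by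
  obtain ⟨g, hg⟩ := hf
  have hM : H91.M (groupFusionSystem u.range) (X.map u) fun x => g * x * g⁻¹ :=
    H91.M_group_iff.2 ⟨map_le_range u X, by
      rintro _ ⟨a, ha, rfl⟩
      exact ⟨_, (hg a ha).symm⟩, g, fun _ _ => rfl⟩
  obtain ⟨g', e⟩ := H91.alperin_induction h.pg_range h.sat
    (C := fun F => ∃ g' : G', ∀ a ∈ X, ∀ b, F (u a) = u b → g' * u' a * g'⁻¹ = u' b)
    (fun F hF => ⟨1, fun a ha b e => by
      rw [hF _ ⟨a, ha, rfl⟩] at e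
      rw [h.inj e]; group⟩)
    (fun F F' R α _ ⟨g', e⟩ hR hα h1 h2 => by
      obtain ⟨A, rfl, hA⟩ : ∃ A : Subgroup H, R = A.map u ∧ ∀ f, Fa u A f → In u' A f := by
        rcases hR with rfl | hR
        · exact ⟨⊤, MonoidHom.range_eq_map u, h0 ⊤ le_top⟩
        · obtain ⟨A, rfl, -, rfl | k⟩ := Nrm.ess' h hR
          · exact ⟨_, rfl, hQ⟩
          · exact ⟨A, rfl, h0 A k⟩
      obtain ⟨x, hx, rfl⟩ := (SR3.fus_mem_aut (map_le_range u A)).1 hα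
      obtain ⟨φ, hφ', eφ⟩ := Fa.of_nm h.inj hx
      obtain ⟨x', ex⟩ := hA φ hφ'
      refine ⟨x' * g', fun a ha b eb => ?_⟩
      have m := h1 _ ⟨a, ha, rfl⟩
      rw [h2 _ ⟨a, ha, rfl⟩, H91.efn_cjAut _ _ _ m] at eb
      obtain ⟨c, hc, ec⟩ := m
      rw [← ec, eφ c hc] at eb
      rw [← h.inj eb, ← ex c hc, ← e a ha c ec.symm]
      group) hM
  exact ⟨g', fun a ha => e a ha _ (hg a ha)⟩

end Cfsg.Agent.U42F
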