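import Cfsg.Agent.U42F.Defs

/-! Project U42F: the automizer of the extraspecial subgroup.  See `notes/U42F.md`. -/

set_option autoImplicit false
set_option linter.unusedSectionVars false

namespace Cfsg.Agent.U42F

open FK DIH
open RFS (Au)
open SR3 (nm ce)
open Subgroup

namespace QS

/-- coordinates on `Q / Z` -/
def qc (v : ℕ) : ℕ :=
  Nat.add (Nat.mod (Nat.div v (nat_lit 2)) (nat_lit 4)) (Nat.mul (Nat.div v (nat_lit 16)) (nat_lit 4))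

/-- a section of `Q → Q / Z` -/
noncomputable def sc (n : ℕ) : H :=
  e (Nat.add (Nat.mul (Nat.mod n (nat_lit 4)) (nat_lit 2)) (Nat.mul (Nat.div n (nat_lit 4)) (nat_lit 16)))

/-- the quadratic form -/
def qf (n : ℕ) : ℕ := Nat.mod (Nat.shiftRight (nat_lit 0x6ac0) n) (nat_lit 2)

/-- the orthogonal group -/
def O : List ℕ := [0x1248, 0x125a, 0x134c, 0x135f, 0x1428, 0x143c, 0x152a, 0x153f, 0x2184, 0x21a5, 0x238c,
  0x23af, 0x2814, 0x283c, 0x2a15, 0x2a3f, 0x31c4, 0x31f5, 0x32c8, 0x32fa, 0x3c14, 0x3c28, 0x3f15, 0x3f2a,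
  0x4182, 0x41c3, 0x458a, 0x45cf, 0x4812, 0x485a, 0x4c13, 0x4c5f, 0x51a2, 0x51f3, 0x54a8, 0x54fc, 0x5a12,
  0x5a48, 0x5f13, 0x5f4c, 0x8241, 0x82c3, 0x8421, 0x84a5, 0x8a45, 0x8acf, 0x8c23, 0x8caf, 0xa251, 0xa2f3,
  0xa521, 0xa584, 0xa854, 0xa8fc, 0xaf23, 0xaf8c, 0xc341, 0xc382, 0xc431, 0xc4f5, 0xc832, 0xc8fa, 0xcf45,
  0xcf8a, 0xf351, 0xf3a2, 0xf531, 0xf5c4, 0xfa32, 0xfac8, 0xfc54, 0xfca8]

theorem qc_lt : ∀ x : H, qc x.v < 16 := by decide +kernel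
theorem qc_mul : ∀ x ∈ sQ, ∀ y ∈ sQ, qc (x * y).v = qc x.v ^^^ qc y.v := by decide +kernel
theorem sc_mem : ∀ n < 16, sc n ∈ sQ := by decide +kernel
theorem qc_sc : ∀ n < 16, qc (sc n).v = n := by decide +kernel
theorem sc_qc : ∀ x ∈ sQ, x = sc (qc x.v) ∨ x = sc (qc x.v) * (e 20 * e 20) := by decide +kernel
theorem qc_sq : ∀ x ∈ sQ, ∀ y ∈ sQ, qc (x * (y * y)).v = qc x.v := by decide +kernel
theorem sq_iff : ∀ x ∈ sQ, (x * x = 1 ↔ qf (qc x.v) = 0) := by decide +kernel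
theorem m20 : e 20 ∈ sQ := by decide +kernel
theorem m2 : e 2 ∈ sQ := by decide +kernel
theorem m4 : e 4 ∈ sQ := by decide +kernel
theorem m16 : e 16 ∈ sQ := by decide +kernel
theorem m32 : e 32 ∈ sQ := by decide +kernel

/-- the singular vectors -/
def Sg : List ℕ := [0, 1, 2, 3, 4, 5, 8, 10, 12, 15]

theorem mem_Sg : ∀ a < 16, qf a = 0 → a ∈ Sg := by decide +kernel

/-- the matrix preserves the quadratic form -/
def Pv (m : ℕ) : Prop := ∀ n < 16, (qf (ap m n) = 0 ↔ qf n = 0)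

instance (m : ℕ) : Decidable (Pv m) := inferInstanceAs (Decidable (∀ n < 16, (qf (ap m n) = 0 ↔ qf n = 0)))

theorem memO' : ∀ a ∈ Sg, ∀ b ∈ Sg, ∀ c ∈ Sg, ∀ d ∈ Sg, Pv (pk a b c d) → pk a b c d ∈ O := by decide +kernel

theorem memO : ∀ a < 16, qf a = 0 → ∀ b < 16, qf b = 0 → ∀ c < 16, qf c = 0 → ∀ d < 16, qf d = 0 →
    (∀ n < 16, (qf (ap (pk a b c d) n) = 0 ↔ qf n = 0)) → pk a b c d ∈ O :=
  fun a a1 a2 b b1 b2 c c1 c2 d d1 d2 =>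
    memO' a (mem_Sg a a1 a2) b (mem_Sg b b1 b2) c (mem_Sg c c1 c2) d (mem_Sg d d1 d2)

theorem canc : ∀ k ∈ O, ∀ n ∈ O, cmp k n = n → k = 0x8421 := by decide +kernel

theorem main : ∀ m ∈ O, ∀ n ∈ O, cmp n m = cmp m 0xa521 → cmp n 0xa521 = cmp 0xa521 n ∨
    ((cmp n 0xa521 = 0xa584 ∨ cmp 0xa521 n = 0xa584) ∧ (cmp 0xa584 n = cmp 0xa521 0xa584 ∨
      cmp (cmp 0xa584 0xa584) n = cmp 0xa521 (cmp 0xa584 0xa584))) := by decide +kernel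

/-- an optional factor -/
noncomputable def op (i : ℕ) (y : H) : H := if i % 2 = 0 then 1 else y

theorem word : ∀ x ∈ sQ, x = op (x.v / 32) (e 32) * (op (x.v / 16) (e 16) * (op (x.v / 4) (e 4) *
    (op (x.v / 2) (e 2) * op x.v (e 16 * e 4 * (e 16 * e 4))))) := by decide +kernel

theorem pp : e 2 * e 2 = 1 := by decide +kernel

theorem gen {P : H → Prop} (hm : ∀ x ∈ sQ, ∀ y ∈ sQ, P x → P y → P (x * y)) (h2 : P (e 2)) (h4 : P (e 4))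
    (h16 : P (e 16)) (h32 : P (e 32)) : ∀ x ∈ sQ, P x := by
  have k : ∀ {x y : H}, x ∈ sQ ∧ P x → y ∈ sQ ∧ P y → x * y ∈ sQ ∧ P (x * y) := fun a b =>
    ⟨mul_mem a.1 b.1, hm _ a.1 _ b.1 a.2 b.2⟩
  have o : ∀ (i : ℕ) {y : H}, y ∈ sQ ∧ P y → op i y ∈ sQ ∧ P (op i y) := fun i y a => by
    unfold op
    split_ifs
    · exact pp ▸ k ⟨m2, h2⟩ ⟨m2, h2⟩
    · exact a
  intro x hx
  rw [word x hx]
  exact (k (o _ ⟨m32, h32⟩) (k (o _ ⟨m16, h16⟩) (k (o _ ⟨m4, h4⟩) (k (o _ ⟨m2, h2⟩)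
    (o _ (k (k ⟨m16, h16⟩ ⟨m4, h4⟩) (k ⟨m16, h16⟩ ⟨m4, h4⟩))))))).2

/-- lifts of the images of the generators differ by an inner automorphism -/
def Key (t : H → H) (m : ℕ) : Prop :=
  ∀ y1 ∈ sQ, qc y1.v = ap m (qc (e 2).v) → ∀ y2 ∈ sQ, qc y2.v = ap m (qc (e 4).v) →
    ∀ y3 ∈ sQ, qc y3.v = ap m (qc (e 16).v) → ∀ y4 ∈ sQ, qc y4.v = ap m (qc (e 32).v) →
      ∃ s ∈ sQ, y1 = t (s * e 2 * s⁻¹) ∧ y2 = t (s * e 4 * s⁻¹) ∧ y3 = t (s * e 16 * s⁻¹) ∧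
        y4 = t (s * e 32 * s⁻¹)

theorem key_id : Key (fun x => x) 0x8421 := by unfold Key; decide +kernel
theorem key_tau : Key tau 0xa584 := by unfold Key; decide +kernel
theorem qc_tau : ∀ x ∈ sQ, qc (tau x).v = ap 0xa584 (qc x.v) := by decide +kernel
theorem qc_b : ∀ x ∈ sQ, qc (e 8 * x * (e 8)⁻¹).v = ap 0xa521 (qc x.v) := by decide +kernel
theorem cos : ∀ s : H, s ∈ sQ ∨ s * (e 8)⁻¹ ∈ sQ := by decide +kernel
theorem bb : e 8 * e 8 = 1 := by decide +kernel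

variable {G : Type*} [Group G] [Finite G] {u : H →* G} {g g' : G} {m n : ℕ}

/-- `g` acts on `Q / Z` by the matrix `m` -/
structure I (u : H →* G) (g : G) (m : ℕ) : Prop where
  lt : m < 65536
  eq : ∀ x ∈ sQ, ∃ y ∈ sQ, g * u x * g⁻¹ = u y ∧ qc y.v = ap m (qc x.v)

theorem i_of (hu : Function.Injective u) {F : ℕ → ℕ} (h1 : ∀ x < 16, F x < 16)
    (h : ∀ x ∈ sQ, ∃ y ∈ sQ, g * u x * g⁻¹ = u y ∧ qc y.v = F (qc x.v)) :
    I u g (pk (F 1) (F 2) (F 4) (F 8)) := by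
  refine ⟨pk_lt (h1 1 (by omega)) (h1 2 (by omega)) (h1 4 (by omega)) (h1 8 (by omega)), fun x hx => ?_⟩
  rw [lin h1 (fun a ha b hb => ?_) _ (qc_lt x)]
  · exact h x hx
  obtain ⟨y, hy, e1, q1⟩ := h _ (sc_mem a ha)
  obtain ⟨y', hy', e2, q2⟩ := h _ (sc_mem b hb)
  obtain ⟨y'', -, e3, q3⟩ := h _ (mul_mem (sc_mem a ha) (sc_mem b hb))
  have : y'' = y * y' := hu (by rw [← e3, map_mul, map_mul, ← e1, ← e2]; group)
  rw [qc_mul _ (sc_mem a ha) _ (sc_mem b hb), qc_sc a ha, qc_sc b hb, this, qc_mul _ hy _ hy', q1, q2,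
    qc_sc a ha, qc_sc b hb] at q3
  exact q3.symm

theorem I.mul (hu : Function.Injective u) (h : I u g m) (h' : I u g' n) : I u (g * g') (cmp m n) := by
  rw [cmp_eq']
  refine i_of hu (F := fun x => ap m (ap n x)) (fun _ _ => ap_lt _ _) fun x hx => ?_
  obtain ⟨y, hy, e1, q1⟩ := h'.eq x hx
  obtain ⟨y', hy', e2, q2⟩ := h.eq y hy
  exact ⟨y', hy', by rw [← e2, ← e1]; group, by rw [q2, q1]⟩

theorem I.uniq (hu : Function.Injective u) (h : I u g m) (h' : I u g n) : m = n := by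
  have k : ∀ x < 16, ap m x = ap n x := fun x hx => by
    obtain ⟨y, -, e1, q1⟩ := h.eq _ (sc_mem x hx)
    obtain ⟨y', -, e2, q2⟩ := h'.eq _ (sc_mem x hx)
    rw [qc_sc x hx] at q1 q2
    rw [← q1, ← q2, hu (e1.symm.trans e2)]
  rw [← pk_ap h.lt, ← pk_ap h'.lt, k 1 (by omega), k 2 (by omega), k 4 (by omega), k 8 (by omega)]

theorem I.nm (h : I u g m) : g ∈ nm (sQ.map u) := SR3.mem_nm_of_conj (by
  rintro _ ⟨x, hx, rfl⟩
  obtain ⟨y, hy, e1, -⟩ := h.eq x hx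
  exact ⟨y, hy, e1.symm⟩)

theorem exists_i (hu : Function.Injective u) (hg : g ∈ nm (sQ.map u)) : ∃ m, I u g m := by
  obtain ⟨f, hf, k⟩ := Fa.of_nm hu hg
  refine ⟨_, i_of hu (F := fun n => qc (f (sc n)).v) (fun _ _ => qc_lt _) fun x hx =>
    ⟨f x, hf.au.mem x hx, k x hx, ?_⟩⟩
  have s := sc_mem _ (qc_lt x)
  rcases sc_qc x hx with e1 | e1
  · rw [← e1]
  · conv_lhs => rw [e1, hf.au.mul _ s _ (mul_mem m20 m20), hf.au.mul _ m20 _ m20]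
    exact qc_sq _ (hf.au.mem _ s) _ (hf.au.mem _ m20)

theorem I.memO (hu : Function.Injective u) (h : I u g m) : m ∈ O := by
  have k : ∀ n < 16, (qf (ap m n) = 0 ↔ qf n = 0) := fun n hn => by
    obtain ⟨y, hy, e1, q1⟩ := h.eq _ (sc_mem n hn)
    have e2 : g * u (sc n * sc n) * g⁻¹ = u (y * y) := by rw [map_mul, map_mul, ← e1]; group
    have := sq_iff _ (sc_mem n hn)
    rw [qc_sc n hn] at q1 this
    rw [← q1, ← sq_iff y hy, ← this]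
    refine ⟨fun a => hu ?_, fun a => hu ?_⟩
    · rw [a, map_one] at e2
      rw [map_one]
      simpa using e2
    · rw [← e2, a]; simp
  rw [← pk_ap h.lt]
  exact QS.memO _ (ap_lt _ _) ((k 1 (by omega)).2 (by decide)) _ (ap_lt _ _) ((k 2 (by omega)).2 (by decide))
    _ (ap_lt _ _) ((k 4 (by omega)).2 (by decide)) _ (ap_lt _ _) ((k 8 (by omega)).2 (by decide))
    (by rw [pk_ap h.lt]; exact k)

theorem I.inn {t : H → H} (ht : ∀ x ∈ sQ, ∀ y ∈ sQ, t (x * y) = t x * t y) (hk : Key t m) (h : I u g m) :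
    ∃ s ∈ sQ, ∀ x ∈ sQ, g * u x * g⁻¹ = u (t (s * x * s⁻¹)) := by
  obtain ⟨y1, a1, e1, q1⟩ := h.eq _ m2
  obtain ⟨y2, a2, e2, q2⟩ := h.eq _ m4
  obtain ⟨y3, a3, e3, q3⟩ := h.eq _ m16
  obtain ⟨y4, a4, e4, q4⟩ := h.eq _ m32
  obtain ⟨s, hs, rfl, rfl, rfl, rfl⟩ := hk y1 a1 q1 y2 a2 q2 y3 a3 q3 y4 a4 q4
  refine ⟨s, hs, gen (fun x hx y hy a b => ?_) e1 e2 e3 e4⟩
  rw [show s * (x * y) * s⁻¹ = s * x * s⁻¹ * (s * y * s⁻¹) by group, ht _ (nm_Q s x hx) _ (nm_Q s y hy),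
    map_mul, map_mul, ← a, ← b]
  group

theorem i_b (u : H →* G) : I u (u (e 8)) 0xa521 :=
  ⟨by norm_num, fun x hx => ⟨_, nm_Q _ x hx, by rw [map_mul, map_mul, map_inv], qc_b x hx⟩⟩

theorem I.same (hu : Function.Injective u) (h : I u g n) (h' : I u g' n) :
    g * g'⁻¹ ∈ u.range ⊔ ce (sQ.map u) := by
  obtain ⟨k, hk⟩ := exists_i hu (mul_mem h.nm (inv_mem h'.nm))
  have e1 := hk.mul hu h'
  rw [inv_mul_cancel_right] at e1
  obtain rfl := canc _ (hk.memO hu) _ (h.memO hu) (e1.uniq hu h)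
  obtain ⟨s, -, e2⟩ := hk.inn (t := fun x => x) (fun _ _ _ _ => rfl) key_id
  have : (u s)⁻¹ * (g * g'⁻¹) ∈ ce (sQ.map u) := TI.ce_of (by
    rintro _ ⟨x, hx, rfl⟩
    rw [e2 x hx, map_mul, map_mul, map_inv])
  simpa using mul_mem (mem_sup_left ⟨s, rfl⟩ : u s ∈ u.range ⊔ ce (sQ.map u)) (mem_sup_right this)

theorem nmL (hg : g ∈ nm (sQ.map u)) (hw : g * u (e 8) * g⁻¹ ∈ u.range ⊔ ce (sQ.map u)) :
    g ∈ nm (u.range ⊔ ce (sQ.map u)) := SR3.mem_nm_of_conj fun y hy => by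
  obtain ⟨_, ⟨s, rfl⟩, c, hc, rfl⟩ :=
    (SR3.mem_sup_of_nm fun _ k => SR3.nm_ce (Fus.range_nm nm_Q k)).1 hy
  have k : ∀ x ∈ sQ, g * u x * g⁻¹ ∈ u.range ⊔ ce (sQ.map u) := fun x hx =>
    mem_sup_left (map_le_range u sQ (SR3.conj_mem hg ⟨x, hx, rfl⟩))
  have k2 : g * u s * g⁻¹ ∈ u.range ⊔ ce (sQ.map u) := by
    rcases cos s with a | a
    · exact k s a
    · convert mul_mem (k _ a) hw using 1
      rw [map_mul, map_inv]; group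
  convert mul_mem k2 (mem_sup_right (SR3.conj_mem (SR3.nm_ce hg) hc)) using 1
  group

theorem ext_of (h : Sat 2 u) {f : H → H} (hm : ∀ a ∈ sQ, f a ∈ sQ) (hg : ∀ a ∈ sQ, g * u a * g⁻¹ = u (f a))
    (hw : g * u (e 8) * g⁻¹ ∈ u.range ⊔ ce (sQ.map u)) : Ext u sQ f := by
  have := Fact.mk Nat.prime_two
  have l := h.loc nm_Q
  have gn := nm_of_ind hm hg
  obtain ⟨k, hk, hn⟩ := l.frat _ le_sup_left le_sup_right (sup_le l.norm (SR3.ce_le_nm le_rfl)) g gn (nmL gn hw)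
  obtain ⟨a, ha, c, hc, e1⟩ := (SR3.mem_sup_of_nm fun _ k => SR3.nm_ce (l.norm k)).1 (inv_mem hk)
  obtain ⟨F, hF, eF⟩ := TI.of_nmS h.inj (mul_mem hn (le_normalizer ha))
  refine ⟨F, hF, fun x hx => h.inj ?_⟩
  have e2 : g * k * a = g * c⁻¹ := by
    rw [show a = k⁻¹ * c⁻¹ by rw [← e1, mul_inv_cancel_right]]; group
  rw [← eF, ← hg x hx, e2]
  calc g * c⁻¹ * u x * (g * c⁻¹)⁻¹ = g * c⁻¹ * (u x * c) * g⁻¹ := by group
    _ = _ := by rw [SR3.mem_ce.1 hc (u x) ⟨x, hx, rfl⟩]; group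

theorem conjL (hu : Function.Injective u) {k w : G} {t : ℕ} (hk : I u k t) (hw : I u w n)
    (e1 : cmp t n = cmp 0xa521 t) : k * w * k⁻¹ ∈ u.range ⊔ ce (sQ.map u) := by
  have := (hk.mul hu hw).same hu (e1 ▸ (i_b u).mul hu hk)
  convert mul_mem this (mem_sup_left ⟨e 8, rfl⟩ : u (e 8) ∈ u.range ⊔ ce (sQ.map u)) using 1
  group

theorem in_tau (h : I u g 0xa584) : ∃ k : G, ∀ x ∈ sQ, k * u x * k⁻¹ = u (tau x) := by
  obtain ⟨s, -, e1⟩ := h.inn tau_mul key_tau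
  refine ⟨g * (u s)⁻¹, fun x hx => ?_⟩
  have := e1 _ (nm_Q s⁻¹ x hx)
  rw [show s * (s⁻¹ * x * s⁻¹⁻¹) * s⁻¹ = x by group] at this
  rw [← this, map_mul, map_mul, map_inv, map_inv, map_inv]; group

end QS

open QS

variable {G : Type*} [Group G] [Finite G] {u : H →* G}

theorem qs (h : Sat 2 u) {f : H → H} (hf : Fa u sQ f) : Ext u sQ f ∨
    (In u sQ tau ∧ (Ext u sQ (fun x => tau (f x)) ∨ Ext u sQ fun x => tau (tau (f x)))) := by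
  have := Fact.mk Nat.prime_two
  obtain ⟨g, hg⟩ := hf.ind
  have gn := nm_of_ind hf.au.mem hg
  have hb := i_b u
  obtain ⟨m, hm⟩ := exists_i h.inj gn
  obtain ⟨n, hn⟩ := exists_i h.inj (mul_mem (mul_mem gn hb.nm) (inv_mem gn))
  have e1 := hn.mul h.inj hm
  rw [inv_mul_cancel_right] at e1
  rcases QS.main _ (hm.memO h.inj) _ (hn.memO h.inj) (e1.uniq h.inj (hm.mul h.inj hb)) with c | ⟨c, c'⟩
  · refine Or.inl (ext_of h hf.au.mem hg (max2 (h.loc nm_Q) hn.nm (nmL hn.nm (conjL h.inj hn hb c)) ?_))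
    rw [show g * u (e 8) * g⁻¹ * (g * u (e 8) * g⁻¹) = g * u (e 8 * e 8) * g⁻¹ by rw [map_mul]; group, bb]
    simp
  obtain ⟨k, hk⟩ : ∃ k : G, ∀ x ∈ sQ, k * u x * k⁻¹ = u (tau x) := by
    rcases c with c | c
    · exact in_tau (c ▸ hn.mul h.inj hb)
    · exact in_tau (c ▸ hb.mul h.inj hn)
  have ik : I u k 0xa584 := ⟨by norm_num, fun x hx => ⟨_, tau_mem x hx, hk x hx, qc_tau x hx⟩⟩
  refine Or.inr ⟨⟨k, hk⟩, c'.imp (fun c' => ?_) fun c' => ?_⟩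
  · refine ext_of (g := k * g) h (fun a ha => tau_mem _ (hf.au.mem a ha)) (fun a ha => ?_) ?_
    · rw [← hk _ (hf.au.mem a ha), ← hg a ha]; group
    · convert conjL h.inj ik hn c' using 1; group
  · refine ext_of (g := k * k * g) h (fun a ha => tau_mem _ (tau_mem _ (hf.au.mem a ha))) (fun a ha => ?_) ?_
    · rw [← hk _ (tau_mem _ (hf.au.mem a ha)), ← hk _ (hf.au.mem a ha), ← hg a ha]; group
    · convert conjL h.inj (ik.mul h.inj ik) hn c' using 1; group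

end Cfsg.Agent.U42F
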