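import Cfsg.Agent.U42F.Up
import Cfsg.Agent.U42F.QS
import Cfsg.Agent.U42F.Ext
import Cfsg.Agent.U42F.Nrm
import Cfsg.Agent.U42F.Mod1
import Cfsg.Agent.U42F.Mod2

/-! Project U42F: the main theorem. -/

set_option autoImplicit false
set_option linter.unusedSectionVars false

namespace Cfsg.Agent.U42F

open FK DIH
open RFS (Au)
open SR3 (nm ce)
open Subgroup
open scoped commutatorElement

variable {G : Type*} [Group G] [Finite G] {u : H →* G}

namespace Main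

variable {E : Subgroup H} {f : H → H} {G' : Type*} [Group G'] [Finite G'] {u' : H →* G'}

theorem resJ (hu : Function.Injective u) (hE : sJ ≤ E) (hf : Fa u E f) : ∃ m, Gm u m ∧
    (∀ x ∈ sJ, f x = e (ap m x.v)) ∧ ∀ x ∈ E, cmp m (cm (x.v / 16)) = cmp (cm ((f x).v / 16)) m := by
  obtain ⟨g, hg⟩ := hf.ind
  obtain ⟨m, i⟩ := exists_ind hu (nm_of_ind (chJ hE hf.au) fun a ha => hg a (hE ha))
  refine ⟨m, ⟨g, i⟩, fun x hx => hu ((hg x (hE hx)).symm.trans (i.eq' hx)), fun x hx => ?_⟩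
  exact (i.mul hu (ind_u u x)).uniq hu (mul_inv_eq_iff_eq_mul.1 (hg x hx) ▸ (ind_u u (f x)).mul hu i)

theorem half (h : Sat 2 u) (h' : Sat 2 u') (hG : ∀ m, Gm u m → Gm u' m) (t : In u' sQ tau) {X : Subgroup H}
    (hf : In u X f) : In u' X f := by
  have k0 : ∀ E, sJ ≤ E → ∀ f, Fa u E f → In u' E f := fun E hE f hf => by
    obtain ⟨m, gm, e1, -⟩ := resJ h.inj hE hf
    obtain ⟨g, i⟩ := hG m gm
    exact extJ h' hE hf.au ⟨g, fun a ha => by rw [e1 a ha, i.eq' ha]⟩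
  have k1 : ∀ f, Ext u sQ f → In u' sQ f := fun f ⟨F, hF, e1⟩ => ((k0 ⊤ le_top F hF).mono le_top).congr e1
  refine uniq h k0 (fun f hf => ?_) hf
  have m := hf.au.mem
  rcases qs h hf with k | ⟨-, k | k⟩
  · exact k1 f k
  · exact (t.comp (t.comp (k1 _ k) fun a ha => tau_mem _ (m a ha))
      fun a ha => tau_mem _ (tau_mem _ (m a ha))).congr fun a ha => tau3 _ (m a ha)
  · exact (t.comp (k1 _ k) fun a ha => tau_mem _ (tau_mem _ (m a ha))).congr fun a ha => tau3 _ (m a ha)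

theorem z_ne {B : Subgroup H} (hB : e 1 ∈ B) : B ≠ ⊥ := fun k =>
  absurd (mem_bot.1 (k ▸ hB)) (by decide +kernel)

theorem inTau (h : Sat 2 u) (hc : (groupFusionSystem u.range).core = ⊥) : In u sQ tau := by
  by_contra n
  refine z_ne (B := sJ) (by decide +kernel) (nrm h hc (fun F hF => chJ le_top hF.au) fun E L p ⟨f, hf, k⟩ => ?_)
  rcases ess p with rfl | hE
  · exact (k ((qs h hf).resolve_right fun q => n q.1)).elim
  · exact ⟨hE, fun f hf => chJ hE hf.au⟩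

theorem noZ (h : Sat 2 u) (hc : (groupFusionSystem u.range).core = ⊥) (k : ∀ m, Gm u m → ap m 1 = 1) : False := by
  have z1 : ∀ b ∈ sZ, b = 1 ∨ b = e 1 := by decide +kernel
  have k0 : ∀ E, sJ ≤ E → ∀ f, Fa u E f → ∀ b ∈ sZ, f b ∈ sZ := fun E hE f hf b hb => by
    obtain ⟨m, gm, e1, -⟩ := resJ h.inj hE hf
    rcases z1 b hb with rfl | rfl
    · rw [hf.au.one]; exact one_mem _
    · rw [e1 _ (by decide +kernel), v_e (by norm_num), k m gm]; exact hb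
  refine z_ne (B := sZ) (by decide +kernel) (nrm h hc (k0 ⊤ le_top) fun E L p _ => ?_)
  rcases ess p with rfl | hE
  · refine ⟨(by decide +kernel : ∀ x ∈ sZ, x ∈ sQ), fun f hf b hb => ?_⟩
    obtain ⟨s, hs, rfl⟩ := (by decide +kernel : ∀ b ∈ sZ, ∃ s ∈ sQ, s * s = b) b hb
    rw [hf.au.mul s hs s hs]
    exact (by decide +kernel : ∀ x ∈ sQ, x * x ∈ sZ) _ (hf.au.mem s hs)
  · exact ⟨fun x hx => hE ((by decide +kernel : ∀ x ∈ sZ, x ∈ sJ) x hx), k0 E hE⟩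

set_option synthInstance.maxSize 2048 in
theorem k3a : ∀ m ∈ K3, (∀ x ∈ sA, x ∈ sJ → e (ap m x.v) ∈ sA) ∧ ∀ v < 4, ∀ w < 4,
    cmp m (cm v) = cmp (cm w) m → (v = 2 → w = 2) ∧
      (v = 1 ∨ v = 3 → ∃ s : H, ∀ x ∈ sJ, e (ap m x.v) = s * x * s⁻¹) := by decide +kernel

theorem v4 (x : H) : x.v / 16 < 4 := by have := v_lt x; omega

theorem noA (h : Sat 2 u) (hc : (groupFusionSystem u.range).core = ⊥) (k : ∀ m, Gm u m → m ∈ K3) : False := by
  have := Fact.mk Nat.prime_two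
  have k0 : ∀ E, sJ ≤ E → sA ≤ E → ∀ f, Fa u E f → ∀ b ∈ sA, f b ∈ sA := fun E hE hA f hf b hb => by
    obtain ⟨m, gm, e1, e2⟩ := resJ h.inj hE hf
    obtain ⟨a1, a2⟩ := k3a m (k m gm)
    rcases (by decide +kernel : ∀ b ∈ sA, b ∈ sJ ∨ (b.v / 16 = 2 ∧ b * b = 1)) b hb with j | ⟨j1, j2⟩
    · rw [e1 b j]; exact a1 b hb j
    · refine (by decide +kernel : ∀ w : H, w.v / 16 = 2 → w * w = 1 → w ∈ sA) _
        ((a2 _ (v4 _) _ (v4 _) (e2 b (hA hb))).1 j1) ?_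
      rw [← hf.au.mul b (hA hb) b (hA hb), j2, hf.au.one]
  have AQ : sA ≤ sQ := (by decide +kernel : ∀ x ∈ sA, x ∈ sQ)
  refine z_ne (B := sA) (by decide +kernel) (nrm h hc (k0 ⊤ le_top le_top) fun E L p ⟨f, hf, n⟩ => ?_)
  rcases ess p with rfl | hE
  · refine ⟨AQ, fun f hf b hb => ?_⟩
    have k1 : ∀ f, Ext u sQ f → f b ∈ sA := fun f ⟨F, hF, e1⟩ => e1 b (AQ hb) ▸ k0 ⊤ le_top le_top F hF b hb
    have m := hf.au.mem b (AQ hb)
    rcases qs h hf with q | ⟨-, q | q⟩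
    · exact k1 f q
    · exact tau3 _ m ▸ tau_A _ (tau_A _ (k1 _ q))
    · exact tau3 _ m ▸ tau_A _ (k1 _ q)
  suffices c : e 32 ∈ E by
    have hA : sA ≤ E := fun b hb => by
      rcases (by decide +kernel : ∀ b ∈ sA, b ∈ sJ ∨ (e 32)⁻¹ * b ∈ sJ) b hb with j | j
      · exact hE j
      · exact (mul_mem_cancel_left (inv_mem c)).1 (hE j)
    exact ⟨hA, k0 E hE hA⟩
  by_cases hJ : E ≤ sJ
  · obtain rfl := le_antisymm hJ hE
    refine p.chain1 (B := sA ⊓ sJ) ⟨inf_le_right, fun g hg => ?_⟩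
      (by decide +kernel : ∀ x ∈ sJ, ⁅e 32, x⁆ ∈ sA ∧ ⁅e 32, x⁆ ∈ sJ)
      fun b hb => (by decide +kernel : ∀ b ∈ sA, b ∈ sJ → e 32 * b = b * e 32) b hb.1 hb.2
    obtain ⟨m, i⟩ := exists_ind h.inj (p.norm hg)
    exact nm_of_ind (f := fun x => e (ap m x.v))
      (fun a ha => ⟨(k3a m (k m ⟨g, i⟩)).1 a ha.1 ha.2, e_J (ap_lt _ _)⟩) fun a ha => i.eq' ha.2
  obtain ⟨x, hx, xJ⟩ := SetLike.not_le_iff_exists.1 hJ
  rcases (by decide +kernel : ∀ x : H, x ∉ sJ → x⁻¹ * e 32 ∈ sJ ∨ x.v / 16 = 1 ∨ x.v / 16 = 3) x xJ with j | j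
  · exact (mul_mem_cancel_left (inv_mem hx)).1 (hE j)
  obtain ⟨m, gm, e1, e2⟩ := resJ h.inj hE hf
  obtain ⟨s, hs⟩ := ((k3a m (k m gm)).2 _ (v4 _) _ (v4 _) (e2 x hx)).2 j
  obtain ⟨y, -, hy⟩ := rigid hE (f := fun a => s⁻¹ * f a * s)
    (fun a ha b hb => by rw [hf.au.mul a ha b hb]; group) fun a ha => by rw [e1 a ha, hs a ha]; group
  refine (n ((Ext.conj u E (s * y)).congr fun a ha => ?_)).elim
  calc s * y * a * (s * y)⁻¹ = s * (y * a * y⁻¹) * s⁻¹ := by group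
    _ = _ := by rw [← hy a ha]; group

end Main

open Main

theorem main (h : Sat 2 u) {Ω : Type*} [Group Ω] {S : Subgroup Ω} [Finite S] {F : FusionSystem S} {j : Ω → G}
    {k : G → Ω} (i : H92.FIso F (groupFusionSystem u.range) j k) (hc : F.core = ⊥) : F.IsRealizable 2 := by
  have := Fact.mk Nat.prime_two
  have hc' : (groupFusionSystem u.range).core = ⊥ := by
    rw [← i.core, i.g.im_eq_bot_iff (H91.core_le F)]
    exact hc
  rcases js h with q | ⟨β, q⟩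
  · exact (noZ h hc' q).elim
  have h1 := h.tw β
  rw [← range_tw u β] at i hc'
  generalize u.comp β.toMonoidHom = u₁ at h1 i hc' q
  have t := inTau h1 hc'
  rcases q with ⟨a1, a2⟩ | a1 | q
  · obtain ⟨X, _, _, w, s, o, b1, b2, t'⟩ := mod1
    exact realizable_of i h1.inj s.inj s.pg (fun X f => ⟨half h1 s (fun _ => up1 h1 s a1 a2 b1 b2) t',
      half s h1 (fun _ => up1 s h1 b1 b2 a1 a2) t⟩) o
  · obtain ⟨X, _, _, w, s, o, b1, t'⟩ := mod2
    exact realizable_of i h1.inj s.inj s.pg (fun X f => ⟨half h1 s (fun _ => up2 h1 s a1 b1) t',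
      half s h1 (fun _ => up2 s h1 b1 a1) t⟩) o
  · exact (noA h1 hc' q).elim

end Cfsg.Agent.U42F
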