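import Cfsg.Agent.FK.Uniq
import Cfsg.Agent.FK.TI
import Cfsg.Agent.FK.Iv
import Cfsg.Agent.DIH.Pc2

/-! Project U42F (fusion systems on the unitriangular group of degree four over the field with two elements).
See `notes/U42F.md`. -/

set_option autoImplicit false
set_option linter.unusedSectionVars false

namespace Cfsg.Agent.U42F

open FK DIH
open RFS (Au)
open SR3 (nm ce)
open Subgroup

/-- generators `z, p, q, b, a, c` with codes `1, 2, 4, 8, 16, 32` -/
def D : PD := PD.ofNat (nat_lit 6) (nat_lit 0x10000c000400030001000000000000000000000000000000000000000000000000000a0005000200010000000000000000000000000000000000000000000000000000000400020001000000000000000000000000000000000000000000000000000000000002000100000000000000000000000000000000000000000000000000000000000000010000000000000000000000000000000000000000000000000000000000000000) (nat_lit 0x2000100008000400020001)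
  (nat_lit 0x1a001b00190018001e001f001d001c00160017001500140012001300110010000a000b00090008000e000f000d000c00060007000500040002000300010000003a003b00390038003e003f003d003c00360037003500340032003300310030002a002b00290028002e002f002d002c00260027002500240022002300210020002c002d002e002f00290028002b002a00260027002400250023002200210020003c003d003e003f00390038003b003a00360037003400350033003200310030000c000d000e000f00090008000b000a00060007000400050003000200010000001c001d001e001f00190018001b001a0016001700140015001300120011001000370036003500340033003200310030003f003e003d003c003b003a0039003800270026002500240023002200210020002f002e002d002c002b002a0029002800170016001500140013001200110010001f001e001d001c001b001a0019001800070006000500040003000200010000000f000e000d000c000b000a00090008003b003a00390038003f003e003d003c00330032003100300037003600350034002b002a00290028002f002e002d002c00230022002100200027002600250024001b001a00190018001f001e001d001c00130012001100100017001600150014000b000a00090008000f000e000d000c00030002000100000007000600050004003d003c003f003e00390038003b003a00350034003700360031003000330032002d002c002f002e00290028002b002a00250024002700260021002000230022001d001c001f001e00190018001b001a00150014001700160011001000130012000d000c000f000e00090008000b000a00050004000700060001000000030002003e003f003c003d003a003b0038003900360037003400350032003300300031002e002f002c002d002a002b0028002900260027002400250022002300200021001e001f001c001d001a001b0018001900160017001400150012001300100011000e000f000c000d000a000b0008000900060007000400050002000300000001)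
  (nat_lit 0x30003100320033003400350036003700380039003a003b003c003d003e003f0020002100220023002400250026002700280029002a002b002c002d002e002f0010001100120013001400150016001700180019001a001b001c001d001e001f0000000100020003000400050006000700080009000a000b000c000d000e000f0031003000330032003500340037003600390038003b003a003d003c003f003e0021002000230022002500240027002600290028002b002a002d002c002f002e0011001000130012001500140017001600190018001b001a001d001c001f001e0001000000030002000500040007000600090008000b000a000d000c000f000e00320033003000310036003700340035003a003b00380039003e003f003c003d00220023002000210026002700240025002a002b00280029002e002f002c002d00120013001000110016001700140015001a001b00180019001e001f001c001d00020003000000010006000700040005000a000b00080009000e000f000c000d00330032003100300037003600350034003b003a00390038003f003e003d003c00230022002100200027002600250024002b002a00290028002f002e002d002c00130012001100100017001600150014001b001a00190018001f001e001d001c00030002000100000007000600050004000b000a00090008000f000e000d000c00340035003600370030003100320033003c003d00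3e003f00380039003a003b00240025002600270020002100220023002c002d002e002f00280029002a002b00140015001600170010001100120013001c001d001e001f00180019001a001b00040005000600070000000100020003000c000d000e000f00080009000a000b00350034003700360031003000330032003d003c003f003e00390038003b003a00250024002700260021002000230022002d002c002f002e00290028002b002a00150014001700160011001000130012001d001c001f001e00190018001b001a00050004000700060001000000030002000d000c000f000e00090008000b000a00360037003400350032003300300031003e003f003c003d003a003b0038003900260027002400250022002300200021002e002f002c002d002a002b0028002900160017001400150012001300100011001e001f001c001d001a001b0018001900060007000400050002000300000001000e000f000c000d000a000b0008000900370036003500340033003200310030003f003e003d003c003b003a0039003800270026002500240023002200210020002f002e002d002c002b002a0029002800170016001500140013001200110010001f001e001d001c001b001a0019001800070006000500040003000200010000000f000e000d000c000b000a0009000800380039003a003b003c003d003e003f0030003100320033003400350036003700280029002a002b002c002d002e002f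0020002100220023002400250026002700180019001a001b001c001d001e001f0010001100120013001400150016001700080009000a000b000c000d000e000f0000000100020003000400050006000700390038003b003a003d003c003f003e0031003000330032003500340037003600290028002b002a002d002c002f002e0021002000230022002500240027002600190018001b001a001d001c001f001e0011001000130012001500140017001600090008000b000a000d000c000f000e00010000000300020005000400070006003a003b00380039003e003f003c003d00320033003000310036003700340035002a002b00280029002e002f002c002d00220023002000210026002700240025001a001b00180019001e001f001c001d00120013001000110016001700140015000a000b00080009000e000f000c000d00020003000000010006000700040005003b003a00390038003f003e003d003c00330032003100300037003600350034002b002a00290028002f002e002d002c00230022002100200027002600250024001b001a00190018001f001e001d001c00130012001100100017001600150014000b000a00090008000f000e000d000c00030002000100000007000600050004003c003d003e003f00380039003a003b00340035003600370030003100320033002c002d002e002f00280029002a002b00240025002600270020002100220023001c001d001e001f001800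19001a001b00140015001600170010001100120013000c000d000e000f00080009000a000b00040005000600070000000100020003003d003c003f003e00390038003b003a00350034003700360031003000330032002d002c002f002e00290028002b002a00250024002700260021002000230022001d001c001f001e00190018001b001a00150014001700160011001000130012000d000c000f000e00090008000b000a00050004000700060001000000030002003e003f003c003d003a003b0038003900360037003400350032003300300031002e002f002c002d002a002b0028002900260027002400250022002300200021001e001f001c001d001a001b0018001900160017001400150012001300100011000e000f000c000d000a000b0008000900060007000400050002000300000001003f003e003d003c003b003a0039003800370036003500340033003200310030002f002e002d002c002b002a0029002800270026002500240023002200210020001f001e001d001c001b001a0019001800170016001500140013001200110010000f000e000d000c000b000a0009000800070006000500040003000200010000)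
  (nat_lit 0x80009000b000a000d000c000e000f0007000600040005000200030001000000180019001b001a001d001c001e001f0017001600140015001200130011001000280029002b002a002d002c002e002f0027002600240025002200230021002000380039003b003a003d003c003e003f00370036003400350032003300310030001a001b00190018001e001f001d001c00160017001500140012001300110010000a000b00090008000e000f000d000c00060007000500040002000300010000003a003b00390038003e003f003d003c00360037003500340032003300310030002a002b00290028002e002f002d002c00260027002500240022002300210020002c002d002e002f00290028002b002a00260027002400250023002200210020003c003d003e003f00390038003b003a00360037003400350033003200310030000c000d000e000f00090008000b000a00060007000400050003000200010000001c001d001e001f00190018001b001a00160017001400150013001200110010003f003e003d003c003b003a0039003800370036003500340033003200310030002f002e002d002c002b002a0029002800270026002500240023002200210020001f001e001d001c001b001a0019001800170016001500140013001200110010000f000e000d000c000b000a0009000800070006000500040003000200010000)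
  (nat_lit 0x3f003e003d003c003b003a0039003800370036003500340033003200310030002f002e002d002c002b002a0029002800270026002500240023002200210020001f001e001d001c001b001a0019001800170016001500140013001200110010000f000e000d000c000b000a0009000800070006000500040003000200010000)

instance okD : D.OK := ⟨by decide +kernel⟩

/-- the model -/
abbrev H : Type := PM D

/-- the element with a given code -/
noncomputable abbrev e (n : ℕ) : H := PM.el D n

theorem N_eq : D.N = 6 := rfl

theorem e_v (x : H) : e x.v = x := PM.ext (Nat.mod_eq_of_lt x.lt)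

theorem v_lt (x : H) : x.v < 64 := x.lt

theorem v_e {n : ℕ} (h : n < 64) : (e n).v = n := Nat.mod_eq_of_lt h

/-- the elementary abelian subgroup of order 16 -/
noncomputable def sJ : Subgroup H := PM.subQ (fun x => x.v < 16) (by decide +kernel) (by decide +kernel)
/-- the extraspecial subgroup of order 32 -/
noncomputable def sQ : Subgroup H := PM.subQ (fun x => x.v / 8 % 2 = 0) (by decide +kernel) (by decide +kernel)
/-- the Frattini subgroup -/
noncomputable def sR : Subgroup H := PM.subQ (fun x => x.v < 8) (by decide +kernel) (by decide +kernel)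
/-- the centre -/
noncomputable def sZ : Subgroup H := PM.subQ (fun x => x.v < 2) (by decide +kernel) (by decide +kernel)
/-- `⟨z, q, c⟩` -/
noncomputable def sA : Subgroup H :=
  PM.subQ (fun x => x.v % 4 < 2 ∧ x.v % 32 < 8) (by decide +kernel) (by decide +kernel)

theorem mem_sJ {x : H} : x ∈ sJ ↔ x.v < 16 := Iff.rfl
theorem mem_sQ {x : H} : x ∈ sQ ↔ x.v / 8 % 2 = 0 := Iff.rfl
theorem mem_sR {x : H} : x ∈ sR ↔ x.v < 8 := Iff.rfl
theorem mem_sZ {x : H} : x ∈ sZ ↔ x.v < 2 := Iff.rfl
theorem mem_sA {x : H} : x ∈ sA ↔ x.v % 4 < 2 ∧ x.v % 32 < 8 := Iff.rfl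

instance : DecidablePred (· ∈ sJ) := fun x => inferInstanceAs (Decidable (x.v < 16))
instance : DecidablePred (· ∈ sQ) := fun x => inferInstanceAs (Decidable (x.v / 8 % 2 = 0))
instance : DecidablePred (· ∈ sR) := fun x => inferInstanceAs (Decidable (x.v < 8))
instance : DecidablePred (· ∈ sZ) := fun x => inferInstanceAs (Decidable (x.v < 2))
instance : DecidablePred (· ∈ sA) := fun x => inferInstanceAs (Decidable (x.v % 4 < 2 ∧ x.v % 32 < 8))

theorem nm_J : ∀ s, Nm sJ s := by unfold Nm; decide +kernel
theorem nm_Q : ∀ s, Nm sQ s := by unfold Nm; decide +kernel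
theorem nm_R : ∀ s, Nm sR s := by unfold Nm; decide +kernel
theorem nm_Z : ∀ s, Nm sZ s := by unfold Nm; decide +kernel
theorem nm_A : ∀ s, Nm sA s := by unfold Nm; decide +kernel
theorem cen_J : ∀ x : H, (∀ y ∈ sJ, x * y = y * x) → x ∈ sJ := by decide +kernel
theorem comm_J : ∀ x ∈ sJ, ∀ y ∈ sJ, x * y = y * x := by decide +kernel
theorem sq_R : ∀ x : H, x * x ∈ sR := by decide +kernel
theorem cm_J : ∀ s x : H, s * x * s⁻¹ * x⁻¹ ∈ sR := by decide +kernel

/-- a subgroup containing `J` is normal -/
theorem nm_of_J {E : Subgroup H} (h : sJ ≤ E) (s : H) : Nm E s := fun x hx => by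
  have := mul_mem (h (show s * x * s⁻¹ * x⁻¹ ∈ sJ from Nat.lt_trans (cm_J s x) (by norm_num))) hx
  rwa [inv_mul_cancel_right] at this

/-- an automorphism of order three of `Q` -/
noncomputable def tau (x : H) : H := e (Nat.mod (Nat.shiftRight
  (nat_lit 0x1875d69e6db7000000000000515144d359640000000000008a3cb30c24d2000000000000c70860450040)
  (Nat.mul (nat_lit 6) x.v)) (nat_lit 64))

theorem tau_mem : ∀ x ∈ sQ, tau x ∈ sQ := by decide +kernel
theorem tau_mul : ∀ x ∈ sQ, ∀ y ∈ sQ, tau (x * y) = tau x * tau y := by decide +kernel
theorem tau3 : ∀ x ∈ sQ, tau (tau (tau x)) = x := by decide +kernel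
theorem tau_A : ∀ x ∈ sA, tau x ∈ sA := by decide +kernel

/-- the matrix with columns the four digits of `m` in base 16, applied to `x` -/
def ap (m x : ℕ) : ℕ :=
  Nat.xor (Nat.xor (Nat.mul (Nat.mod x (nat_lit 2)) (Nat.mod m (nat_lit 16)))
    (Nat.mul (Nat.mod (Nat.div x (nat_lit 2)) (nat_lit 2)) (Nat.mod (Nat.div m (nat_lit 16)) (nat_lit 16))))
  (Nat.xor (Nat.mul (Nat.mod (Nat.div x (nat_lit 4)) (nat_lit 2)) (Nat.mod (Nat.div m (nat_lit 256)) (nat_lit 16)))
    (Nat.mul (Nat.mod (Nat.div x (nat_lit 8)) (nat_lit 2)) (Nat.mod (Nat.div m (nat_lit 4096)) (nat_lit 16))))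

/-- the matrix with the given columns -/
def pk (a b c d : ℕ) : ℕ :=
  Nat.add (Nat.add a (Nat.mul b (nat_lit 16))) (Nat.add (Nat.mul c (nat_lit 256)) (Nat.mul d (nat_lit 4096)))

/-- the product of matrices: first `n`, then `m` -/
def cmp (m n : ℕ) : ℕ :=
  pk (ap m (Nat.mod n (nat_lit 16))) (ap m (Nat.mod (Nat.div n (nat_lit 16)) (nat_lit 16)))
    (ap m (Nat.mod (Nat.div n (nat_lit 256)) (nat_lit 16))) (ap m (Nat.mod (Nat.div n (nat_lit 4096)) (nat_lit 16)))

theorem ap_eq (m x : ℕ) : ap m x = (x % 2 * (m % 16) ^^^ x / 2 % 2 * (m / 16 % 16)) ^^^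
    (x / 4 % 2 * (m / 256 % 16) ^^^ x / 8 % 2 * (m / 4096 % 16)) := rfl

theorem pk_eq (a b c d : ℕ) : pk a b c d = a + b * 16 + (c * 256 + d * 4096) := rfl

theorem cmp_eq (m n : ℕ) :
    cmp m n = pk (ap m (n % 16)) (ap m (n / 16 % 16)) (ap m (n / 256 % 16)) (ap m (n / 4096 % 16)) := rfl

theorem bit_lt {b y : ℕ} (hy : y < 16) : b % 2 * y < 2 ^ 4 := by
  rcases Nat.mod_two_eq_zero_or_one b with h | h <;> rw [h] <;> omega

theorem ap_lt (m x : ℕ) : ap m x < 16 := by
  have k : ∀ y : ℕ, y % 16 < 16 := fun y => Nat.mod_lt _ (by norm_num)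
  exact Nat.xor_lt_two_pow (n := 4) (Nat.xor_lt_two_pow (bit_lt (k _)) (bit_lt (k _)))
    (Nat.xor_lt_two_pow (bit_lt (k _)) (bit_lt (k _)))

theorem pk_lt {a b c d : ℕ} (ha : a < 16) (hb : b < 16) (hc : c < 16) (hd : d < 16) : pk a b c d < 65536 := by
  rw [pk_eq]; omega

theorem cmp_lt (m n : ℕ) : cmp m n < 65536 := pk_lt (ap_lt _ _) (ap_lt _ _) (ap_lt _ _) (ap_lt _ _)

theorem ap_pk {a b c d : ℕ} (ha : a < 16) (hb : b < 16) (hc : c < 16) (hd : d < 16) (x : ℕ) :
    ap (pk a b c d) x = (x % 2 * a ^^^ x / 2 % 2 * b) ^^^ (x / 4 % 2 * c ^^^ x / 8 % 2 * d) := by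
  rw [ap_eq, pk_eq, show (a + b * 16 + (c * 256 + d * 4096)) % 16 = a by omega,
    show (a + b * 16 + (c * 256 + d * 4096)) / 16 % 16 = b by omega,
    show (a + b * 16 + (c * 256 + d * 4096)) / 256 % 16 = c by omega,
    show (a + b * 16 + (c * 256 + d * 4096)) / 4096 % 16 = d by omega]

theorem ap_1 (m : ℕ) : ap m 1 = m % 16 := by simp [ap_eq]
theorem ap_2 (m : ℕ) : ap m 2 = m / 16 % 16 := by simp [ap_eq]
theorem ap_4 (m : ℕ) : ap m 4 = m / 256 % 16 := by simp [ap_eq]
theorem ap_8 (m : ℕ) : ap m 8 = m / 4096 % 16 := by simp [ap_eq]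

theorem pk_ap {m : ℕ} (h : m < 65536) : pk (ap m 1) (ap m 2) (ap m 4) (ap m 8) = m := by
  rw [ap_1, ap_2, ap_4, ap_8, pk_eq]; omega

theorem cmp_eq' (m n : ℕ) : cmp m n = pk (ap m (ap n 1)) (ap m (ap n 2)) (ap m (ap n 4)) (ap m (ap n 8)) := by
  rw [ap_1, ap_2, ap_4, ap_8, cmp_eq]

theorem e_xor : ∀ x < 16, ∀ y < 16, e x * e y = e (x ^^^ y) := by decide +kernel

theorem e_J {x : ℕ} (h : x < 16) : e x ∈ sJ := mem_sJ.2 (by rw [v_e (by omega)]; exact h)

theorem e_inj {x y : ℕ} (hx : x < 16) (hy : y < 16) (h : e x = e y) : x = y := by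
  rw [← v_e (n := x) (by omega), h, v_e (by omega)]

/-- an additive map is given by a matrix -/
theorem lin {f : ℕ → ℕ} (h1 : ∀ x < 16, f x < 16) (h2 : ∀ x < 16, ∀ y < 16, f (x ^^^ y) = f x ^^^ f y) :
    ∀ x < 16, ap (pk (f 1) (f 2) (f 4) (f 8)) x = f x := by
  have h0 : f 0 = 0 := by simpa using h2 0 (by omega) 0 (by omega)
  have k : ∀ b c, c < 16 → f (b % 2 * c) = b % 2 * f c := fun b c _ => by
    rcases Nat.mod_two_eq_zero_or_one b with h | h <;> simp [h, h0]
  intro x hx
  have d : ∀ x < 16, x = (x % 2 * 1 ^^^ x / 2 % 2 * 2) ^^^ (x / 4 % 2 * 4 ^^^ x / 8 % 2 * 8) := by decide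
  have l : ∀ {b c : ℕ}, c < 16 → b % 2 * c < 16 := fun hc => bit_lt hc
  have l2 : ∀ {a b : ℕ}, a < 16 → b < 16 → a ^^^ b < 16 := fun ha hb => Nat.xor_lt_two_pow (n := 4) ha hb
  rw [ap_pk (h1 1 (by omega)) (h1 2 (by omega)) (h1 4 (by omega)) (h1 8 (by omega))]
  conv_rhs => rw [d x hx]
  rw [h2 _ (l2 (l (by omega)) (l (by omega))) _ (l2 (l (by omega)) (l (by omega))),
    h2 _ (l (by omega)) _ (l (by omega)), h2 _ (l (by omega)) _ (l (by omega)),
    k _ _ (by omega), k _ _ (by omega), k _ _ (by omega), k _ _ (by omega)]

variable {G : Type*} [Group G] {u : H →* G} {g g' : G} {m n : ℕ}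

/-- `g` acts on `J` by the matrix `m` -/
structure Ind (u : H →* G) (g : G) (m : ℕ) : Prop where
  lt : m < 65536
  eq : ∀ x < 16, g * u (e x) * g⁻¹ = u (e (ap m x))

/-- the matrix `m` is induced on `J` -/
def Gm (u : H →* G) (m : ℕ) : Prop := ∃ g, Ind u g m

theorem ind_of (hu : Function.Injective u) {f : ℕ → ℕ} (h1 : ∀ x < 16, f x < 16)
    (h : ∀ x < 16, g * u (e x) * g⁻¹ = u (e (f x))) : Ind u g (pk (f 1) (f 2) (f 4) (f 8)) := by
  refine ⟨pk_lt (h1 1 (by omega)) (h1 2 (by omega)) (h1 4 (by omega)) (h1 8 (by omega)), fun x hx => ?_⟩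
  rw [lin h1 (fun x hx y hy => ?_) x hx, h x hx]
  have l : x ^^^ y < 16 := Nat.xor_lt_two_pow (n := 4) hx hy
  refine e_inj (h1 _ l) (Nat.xor_lt_two_pow (n := 4) (h1 x hx) (h1 y hy)) (hu ?_)
  rw [← h _ l, ← e_xor x hx y hy, ← e_xor _ (h1 x hx) _ (h1 y hy), map_mul, map_mul, ← h x hx, ← h y hy]
  group

theorem Ind.mul (hu : Function.Injective u) (h : Ind u g m) (h' : Ind u g' n) : Ind u (g * g') (cmp m n) := by
  rw [cmp_eq']
  refine ind_of hu (f := fun x => ap m (ap n x)) (fun _ _ => ap_lt _ _) fun x hx => ?_
  rw [← h.eq _ (ap_lt _ _), ← h'.eq x hx]; group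

theorem Ind.uniq (hu : Function.Injective u) (h : Ind u g m) (h' : Ind u g n) : m = n := by
  have k : ∀ x < 16, ap m x = ap n x := fun x hx =>
    e_inj (ap_lt _ _) (ap_lt _ _) (hu ((h.eq x hx).symm.trans (h'.eq x hx)))
  rw [← pk_ap h.lt, ← pk_ap h'.lt, k 1 (by omega), k 2 (by omega), k 4 (by omega), k 8 (by omega)]

theorem Gm.mul (hu : Function.Injective u) (h : Gm u m) (h' : Gm u n) : Gm u (cmp m n) :=
  let ⟨_, k⟩ := h
  let ⟨_, k'⟩ := h'
  ⟨_, k.mul hu k'⟩

theorem Ind.eq' (h : Ind u g m) {x : H} (hx : x ∈ sJ) : g * u x * g⁻¹ = u (e (ap m x.v)) := by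
  rw [← h.eq _ hx, e_v]

theorem exists_ind (hu : Function.Injective u) (hg : g ∈ nm (sJ.map u)) : ∃ m, Ind u g m := by
  obtain ⟨f, hf, k⟩ := Fa.of_nm hu hg
  exact ⟨_, ind_of hu (f := fun x => (f (e x)).v) (fun x hx => hf.au.mem _ (e_J hx)) fun x hx => by
    rw [k _ (e_J hx), e_v]⟩

theorem Ind.nm [Finite G] (h : Ind u g m) : g ∈ nm (sJ.map u) :=
  nm_of_ind (f := fun x => e (ap m x.v)) (fun _ _ => e_J (ap_lt _ _)) fun _ hx => h.eq' hx

/-- the matrix of conjugation by an element of the coset `v` of `J` -/
def cm (v : ℕ) : ℕ := [0x8421, 0xa521, 0xc431, 0xf531].getD v 0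

theorem cm_spec : ∀ s : H, ∀ x < 16, s * e x * s⁻¹ = e (ap (cm (s.v / 16)) x) := by decide +kernel

theorem ind_u (u : H →* G) (s : H) : Ind u (u s) (cm (s.v / 16)) :=
  ⟨by
    have := v_lt s
    have : s.v / 16 < 4 := by omega
    generalize s.v / 16 = v at this
    interval_cases v <;> decide, fun x hx => by rw [← cm_spec s x hx, map_mul, map_mul, map_inv]⟩

theorem ap_id : ∀ x < 16, ap 0x8421 x = x := by decide

theorem ind_ce (hg : g ∈ ce (sJ.map u)) : Ind u g 0x8421 :=
  ⟨by norm_num, fun x hx => by
    rw [ap_id x hx, ← SR3.mem_ce.1 hg _ ⟨_, e_J hx, rfl⟩, mul_inv_cancel_right]⟩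

theorem Ind.ce (h : Ind u g 0x8421) : g ∈ ce (sJ.map u) := SR3.mem_ce.2 (by
  rintro _ ⟨x, hx, rfl⟩
  have := h.eq' hx
  rw [ap_id _ hx, e_v] at this
  exact (mul_inv_eq_iff_eq_mul.1 this).symm)

/-- the two elements of order three that generate, with `Aut_H(J)`, the automizer of `J` in `L₄(2)` -/
abbrev r1 : ℕ := 0xa584
abbrev r2 : ℕ := 0xc832
/-- an involution that generates, with `Aut_H(J)`, the automizer of `J` in `U₄(2)` -/
abbrev t5 : ℕ := 0x1bd8
/-- the group generated by `r1` and `Aut_H(J)` -/
def K3 : List ℕ := [0x2184, 0x21a5, 0x31c4, 0x31f5, 0x8421, 0x84a5, 0xa521, 0xa584, 0xc431, 0xc4f5, 0xf531, 0xf5c4]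

/-- an element that normalizes a Sylow 2-subgroup of the automizer, with square in it, lies in it -/
theorem max2 [Finite G] {N E : Subgroup G} (l : SR3.Loc 2 N E) {w : G} (hw : w ∈ nm E) (hn : w ∈ nm (N ⊔ ce E))
    (h2 : w * w ∈ N ⊔ ce E) : w ∈ N ⊔ ce E := by
  have := Fact.mk Nat.prime_two
  have n1 : N ≤ nm (ce E) := fun _ k => SR3.nm_ce (l.norm k)
  have k1 : ∀ g ∈ N ⊔ ce E, ∃ m, g ^ 2 ^ m ∈ ce E := fun g hg => by
    obtain ⟨a, ha, c, hc, rfl⟩ := (SR3.mem_sup_of_nm n1).1 hg
    obtain ⟨m, hm⟩ := l.pg ⟨a, ha⟩
    refine ⟨m, ?_⟩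
    have k : ∀ j : ℕ, (a * c) ^ j * (a ^ j)⁻¹ ∈ ce E := fun j => by
      induction j with
      | zero => simp
      | succ j ih =>
        have := mul_mem ih (SR3.conj_mem (n1 (pow_mem ha (j + 1))) hc)
        convert this using 1
        simp only [pow_succ]; group
    have := k (2 ^ m)
    rwa [show a ^ 2 ^ m = 1 from congrArg Subtype.val hm, inv_one, mul_one] at this
  have := l.max (K := ce E) (P := (N ⊔ ce E) ⊔ zpowers w) le_rfl (fun _ => SR3.nm_ce)
    (le_sup_left.trans le_sup_left) (sup_le (sup_le l.norm (SR3.ce_le_nm le_rfl)) (zpowers_le.2 hw)) fun g hg => by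
      obtain ⟨a, ha, k, rfl⟩ := (SR3.mem_sup_zpowers hn).1 hg
      have e1 : (a * w ^ k) ^ 2 ∈ N ⊔ ce E := by
        have := mul_mem (mul_mem ha (SR3.conj_mem (zpow_mem hn k) ha)) (zpow_mem h2 k)
        convert this using 1
        rw [← pow_two, ← zpow_natCast w 2, ← zpow_mul, pow_two]
        group
      obtain ⟨m, hm⟩ := k1 _ e1
      exact ⟨m + 1, by rwa [pow_succ', pow_mul]⟩
  exact (this.trans (sup_le_sup_left inf_le_left _)) (mem_sup_right (mem_zpowers w))

end Cfsg.Agent.U42F
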