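import Cfsg.Agent.U42F.Defs

set_option autoImplicit false
set_option linter.unusedSectionVars false
set_option synthInstance.maxSize 4096

namespace Cfsg.Agent.U42F

open FK DIH
open RFS (Au)
open SR3 (nm ce)
open Subgroup
open scoped commutatorElement

variable {G : Type*} [Group G] [Finite G] {u : H →* G}

namespace Ess

theorem z_cen : ∀ a ∈ sZ, ∀ x : H, a * x = x * a := by decide +kernel
theorem z_eq : ∀ a ∈ sZ, a = 1 ∨ a = e 1 := by decide +kernel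
theorem z_mem : e 1 ∈ sZ := by decide +kernel
theorem cm_Q : ∀ x ∈ sQ, ∀ y ∈ sQ, x * y * x⁻¹ * y⁻¹ ∈ sZ := by decide +kernel
theorem sq_Q : ∀ x ∈ sQ, x * x ∈ sZ := by decide +kernel
theorem ex_s : ∀ y ∈ sQ, ∃ s ∈ sQ, s * y = y * s ∧ s * s = e 1 := by decide +kernel
theorem sq_J : ∀ x ∈ sJ, x * x = 1 := by decide +kernel
theorem chi : ∀ x y : H, (x * y).v / 8 = x.v / 8 ^^^ y.v / 8 := by decide +kernel
theorem memJ {x : H} : x ∈ sJ ↔ x.v / 8 < 2 := by rw [mem_sJ]; omega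
theorem chi_lt (x : H) : x.v / 8 < 8 := by have := v_lt x; omega
theorem cos_J (a w : H) (h : w * a ∈ sJ) (b : H) (h' : b * a ∈ sJ) : b * w ∈ sJ := by
  rw [memJ, chi] at *
  exact (by decide +kernel : ∀ a < 8, ∀ w < 8, w ^^^ a < 2 → ∀ b < 8, b ^^^ a < 2 → b ^^^ w < 2)
    _ (chi_lt a) _ (chi_lt w) h _ (chi_lt b) h'
theorem inv_J : ∀ w : H, w * w = 1 → w ∉ sJ → ∀ a, w * a = a * w → (a ∈ sJ ∨ a * w ∈ sJ) → a ∈ sQ := by
  decide +kernel
theorem k1 : ∀ x ∈ sJ, ∀ b : H,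
    x * b * x⁻¹ * b⁻¹ * b = b * (x * b * x⁻¹ * b⁻¹) := by decide +kernel
theorem k2 {k a b : H} (hk : k ∈ sJ) (h : k * a = a * k) (hb : b ∈ sJ ∨ b * a ∈ sJ) : k * b = b * k := by
  rcases hb with hb | hb
  · exact comm_J k hk b hb
  · have := comm_J k hk _ hb
    rw [mul_assoc b, ← h, ← mul_assoc, ← mul_assoc] at this
    exact mul_right_cancel this
/-- two independent cosets outside `Q` -/
def g0 (s t : ℕ) : Prop := s % 2 ≠ 0 ∧ ¬ s < 2 ∧ t % 2 ≠ 0 ∧ ¬ t < 2 ∧ ¬ s ^^^ t < 2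
instance instDecG0 (s t : ℕ) : Decidable (g0 s t) := inferInstanceAs (Decidable (_ ∧ _))
theorem pick : ∀ a < 8, a % 2 ≠ 0 → ∀ b < 8, ¬ b < 2 → ∀ c < 8, ¬ c < 2 → ¬ c ^^^ b < 2 →
    g0 a b ∨ g0 a c ∨ g0 a (a ^^^ b) ∨ g0 a (a ^^^ c) ∨ g0 b c ∨ g0 b (a ^^^ c) ∨ g0 (a ^^^ b) c ∨
      g0 (a ^^^ b) (a ^^^ c) := by decide +kernel
theorem ind_R : ∀ s : H, s ∉ sQ → s ∉ sJ → ∀ t, t ∉ sQ → t ∉ sJ → s * t ∉ sJ →
    (s * s).v ≠ 0 ∧ (t * t).v ∉ [0, (s * s).v] ∧ (t * s * t⁻¹ * (t * s * t⁻¹)).v ∉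
      [0, (s * s).v, (t * t).v, (s * s).v ^^^ (t * t).v] := by
  decide +kernel
theorem span_R : ∀ p < 8, p ≠ 0 → ∀ q < 8, q ∉ [0, p] → ∀ w < 8, w ∉ [0, p, q, p ^^^ q] → ∀ r < 8,
    ∃ i ∈ [0, p], ∃ j ∈ [0, q], ∃ k ∈ [0, w], r = i ^^^ j ^^^ k := by decide +kernel
theorem e0 : e 0 = 1 := by decide +kernel
theorem R_le : sR ≤ sJ := fun _ h => Nat.lt_trans h (by norm_num)

variable {E : Subgroup H} {L : Subgroup G}

theorem caseQ (h : Pr 2 u E L) (hQ : E ≤ sQ) : E = sQ := by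
  have := Fact.mk Nat.prime_two
  have hZ : sZ ≤ E := fun a ha => h.cen a fun x _ => z_cen a ha x
  obtain ⟨M, a, b, c⟩ := h.se
  refine le_antisymm hQ fun x hx => ?_
  by_cases hM : L ⊓ nm (sZ.map u) ≤ M
  · exfalso
    obtain ⟨g, hg, hg'⟩ := SetLike.not_le_iff_exists.1 b
    obtain ⟨f, hf, k⟩ := Fa.of_nm h.inj (h.norm hg)
    obtain ⟨y, hy, ey⟩ := hf.au.sur _ (hZ z_mem)
    obtain ⟨s, hs, s1, s2⟩ := ex_s y (hQ hy)
    by_cases hE : s ∈ E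
    · refine hg' (hM ⟨hg, nm_of_ind (f := f) (fun a ha => ?_) fun a ha => k a (hZ ha)⟩)
      rcases z_eq a ha with rfl | rfl
      · rw [hf.au.one]; exact one_mem _
      · rw [← s2, hf.au.mul s hE s hE]; exact sq_Q _ (hQ (hf.au.mem s hE))
    · have n : Nm E s := Nm.of_comm fun a ha => hZ (cm_Q s hs a (hQ ha))
      refine hg' (c g hg s n hE (hM ⟨L.mul_mem (L.mul_mem hg (h.mem_L n)) (L.inv_mem hg),
        nm_of_ind (f := fun a => a) (fun a ha => ha) fun a ha => ?_⟩))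
      rcases z_eq a ha with rfl | rfl
      · simp
      · rw [← ey, ← k y hy]
        calc g * u s * g⁻¹ * (g * u y * g⁻¹) * (g * u s * g⁻¹)⁻¹ = g * (u (s * y) * (u s)⁻¹) * g⁻¹ := by
              rw [map_mul]; group
          _ = _ := by rw [s1, map_mul]; group
  · have le : NC u E ≤ L ⊓ nm (sZ.map u) := le_inf h.le (sup_le (inf_le_left.trans (Fus.range_nm nm_Z))
      (SR3.ce_le_nm (map_mono hZ)))
    have h' : Pr 2 u E (L ⊓ nm (sZ.map u)) := ⟨h.pg, h.inj, h.ne, h.cen, inf_le_left.trans h.norm, le,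
      fun hd => h.syl (hd.trans (Dvd.intro _ (relIndex_mul_relIndex _ _ _ le inf_le_left))),
      M, a, hM, fun g hg => c g hg.1⟩
    exact h'.chain1 (B := sZ) ⟨hZ, inf_le_right⟩ (fun a ha => cm_Q x hx a (hQ ha)) fun b hb => (z_cen b hb x).symm

theorem caseB (h : Pr 2 u E L) {a b : H} (ha : a ∈ E) (ha' : a ∉ sQ) (k : ∀ c ∈ E, c ∈ sJ ∨ c * b ∈ sJ) :
    sJ ≤ E := fun x hx => by
  have := Fact.mk Nat.prime_two
  refine h.chain1 (h.iv_om h.iv_bot) (fun c hc => ?_) fun w hw => comm_J x hx w ?_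
  · have m : ⁅x, c⁆ ∈ sJ := R_le (cm_J x c)
    have cm : ∀ d ∈ E, ⁅x, c⁆ * d = d * ⁅x, c⁆ := fun d hd => by
      rcases k c hc with k' | k'
      · rw [commutatorElement_eq_one_iff_mul_comm.2 (comm_J x hx c k'), one_mul, mul_one]
      · exact k2 m (k1 x hx c) ((k d hd).imp_right (cos_J b c k' d))
    refine ⟨h.cen _ cm, mem_bot.2 (by rw [pow_two]; exact sq_J _ m), fun d hd => mem_bot.2 ?_⟩
    exact commutatorElement_eq_one_iff_mul_comm.2 (cm d hd).symm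
  · by_contra hw'
    obtain ⟨w1, w2, w3⟩ := hw
    refine ha' (inv_J w (by rw [← pow_two]; exact mem_bot.1 w2) hw' a
      (commutatorElement_eq_one_iff_mul_comm.1 (mem_bot.1 (w3 a ha))).symm ?_)
    exact (k a ha).imp_right (cos_J b w ((k w w1).resolve_left hw') a)

theorem caseR (h : Pr 2 u E L) {s t : H} (hs : s ∈ E) (ht : t ∈ E) (k : g0 (s.v / 8) (t.v / 8)) :
    sJ ≤ E := fun x hx => by
  have := Fact.mk Nat.prime_two
  obtain ⟨g1, g2, g3, g4, g5⟩ := k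
  obtain ⟨i1, i2, i3⟩ := ind_R s g1 (mt memJ.1 g2) t g3 (mt memJ.1 g4) (by rw [memJ, chi]; exact g5)
  let P : H → Prop := fun r => r ∈ E ∧ ∀ f, Au E f → f r ∈ sR
  have Pm : ∀ {a b}, P a → P b → P (a * b) := fun ha hb => ⟨mul_mem ha.1 hb.1, fun f hf => by
    rw [hf.mul _ ha.1 _ hb.1]; exact mul_mem (ha.2 f hf) (hb.2 f hf)⟩
  have Ps : ∀ a ∈ E, ∀ i ∈ [0, (a * a).v], P (e i) ∧ i < 2 ^ 4 := fun a ha i hi => by
    simp only [List.mem_cons, List.not_mem_nil, or_false] at hi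
    rcases hi with rfl | rfl
    · rw [e0]; exact ⟨⟨one_mem _, fun f hf => by rw [hf.one]; exact one_mem _⟩, by norm_num⟩
    · rw [e_v]; exact ⟨⟨mul_mem ha ha, fun f hf => by rw [hf.mul _ ha _ ha]; exact sq_R _⟩, R_le (sq_R a)⟩
  have k' : ∀ r ∈ sR, P r := fun r hr => by
    obtain ⟨i, hi, j, hj, l, hl, e1⟩ := span_R _ (sq_R s) i1 _ (sq_R t) i2 _ (sq_R _) i3 _ hr
    obtain ⟨a1, a2⟩ := Ps s hs i hi
    obtain ⟨b1, b2⟩ := Ps t ht j hj
    obtain ⟨c1, c2⟩ := Ps _ (mul_mem (mul_mem ht hs) (inv_mem ht)) l hl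
    rw [← e_v r, e1, ← e_xor _ (Nat.xor_lt_two_pow a2 b2) _ c2, ← e_xor _ a2 _ b2]
    exact Pm (Pm a1 b1) c1
  exact h.chain1 (B := sR) (h.iv_of (fun r hr => (k' r hr).1) fun f hf _ r hr => (k' r hr).2 f hf)
    (fun c _ => cm_J x c) fun r hr => comm_J x hx r (R_le hr)

end Ess

open Ess

theorem ess {E : Subgroup H} {L : Subgroup G} (h : Pr 2 u E L) : E = sQ ∨ sJ ≤ E := by
  by_cases hQ : E ≤ sQ
  · exact .inl (caseQ h hQ)
  refine .inr ?_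
  obtain ⟨a, ha, ha'⟩ := SetLike.not_le_iff_exists.1 hQ
  by_cases hJ : E ≤ sJ
  · exact caseB h ha ha' (b := 1) fun c hc => .inl (hJ hc)
  obtain ⟨b, hb, hb'⟩ := SetLike.not_le_iff_exists.1 hJ
  by_cases k : ∀ c ∈ E, c ∈ sJ ∨ c * b ∈ sJ
  · exact caseB h ha ha' k
  push Not at k
  obtain ⟨c, hc, c1, c2⟩ := k
  have ab := mul_mem ha hb
  have ac := mul_mem ha hc
  have p := pick _ (chi_lt a) ha' _ (chi_lt b) (mt memJ.2 hb') _ (chi_lt c) (mt memJ.2 c1)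
    (by rw [← chi, ← memJ]; exact c2)
  rw [← chi, ← chi] at p
  rcases p with p | p | p | p | p | p | p | p
  exacts [caseR h ha hb p, caseR h ha hc p, caseR h ha ab p, caseR h ha ac p, caseR h hb hc p,
    caseR h hb ac p, caseR h ab hc p, caseR h ab ac p]

end Cfsg.Agent.U42F
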