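import Cfsg.Agent.U42F.UpA

/-! Project U42F: the automizer of `J`. -/

set_option autoImplicit false
set_option linter.unusedSectionVars false

namespace Cfsg.Agent.U42F

open FK DIH
open RFS (Au)
open SR3 (nm ce)
open Subgroup

variable {G : Type*} [Group G] [Finite G] {u : H →* G}

namespace Up

open UpA

variable {g g' : G} {m n : ℕ}

theorem ce2 (h : Ind u g m) (h' : Ind u g' m) : g⁻¹ * g' ∈ ce (sJ.map u) := TI.ce_of (by
  rintro _ ⟨x, hx, rfl⟩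
  rw [h.eq' hx, h'.eq' hx])

theorem cm_V : ∀ v < 4, cm v ∈ V4 := by decide

theorem indV : ∀ v ∈ V4, ∃ s : H, Ind u (u s) v := by
  have k : ∀ v ∈ V4, ∃ s : H, cm (s.v / 16) = v := by decide +kernel
  intro v hv
  obtain ⟨s, rfl⟩ := k v hv
  exact ⟨s, ind_u u s⟩

theorem gV {v : ℕ} (hv : v ∈ V4) : Gm u v := let ⟨_, k⟩ := indV (u := u) v hv; ⟨_, k⟩

theorem cmV (s : H) : cm (s.v / 16) ∈ V4 := cm_V _ (by have := v_lt s; omega)

theorem n1 : u.range ≤ nm (ce (sJ.map u)) := fun _ k => SR3.nm_ce (TI.range_le nm_J k)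

theorem memN (hv : m ∈ V4) (h : Ind u g m) : g ∈ u.range ⊔ ce (sJ.map u) := by
  obtain ⟨s, hs⟩ := indV (u := u) m hv
  simpa using mul_mem (mem_sup_left ⟨s, rfl⟩ : u s ∈ u.range ⊔ ce (sJ.map u)) (mem_sup_right (ce2 hs h))

theorem id_cmp : ∀ v ∈ V4, cmp v 0x8421 = v := by decide

theorem ofN (hu : Function.Injective u) (h : Ind u g m) (hg : g ∈ u.range ⊔ ce (sJ.map u)) : m ∈ V4 := by
  obtain ⟨_, ⟨s, rfl⟩, c, hc, rfl⟩ := (SR3.mem_sup_of_nm n1).1 hg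
  rw [h.uniq hu ((ind_u u s).mul hu (ind_ce hc)), id_cmp _ (cmV s)]
  exact cmV s

theorem conjN (hu : Function.Injective u) (h : Ind u g m) (h' : Ind u g' n) (k : CV m n) :
    g * g' * g⁻¹ ∈ u.range ⊔ ce (sJ.map u) := by
  obtain ⟨v, hv, k⟩ := k
  obtain ⟨s, hs⟩ := indV (u := u) v hv
  have := ce2 (hs.mul hu h) (k ▸ h.mul hu h')
  have := mul_mem (mem_sup_left ⟨s, rfl⟩ : u s ∈ u.range ⊔ ce (sJ.map u))
    (mem_sup_right (SR3.conj_mem (SR3.nm_ce h.nm) this))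
  convert this using 1
  group

theorem nmN (hu : Function.Injective u) (h : Ind u g m) (k : ∀ v ∈ V4, CV m v) :
    g ∈ nm (u.range ⊔ ce (sJ.map u)) := SR3.mem_nm_of_conj fun x hx => by
  obtain ⟨_, ⟨s, rfl⟩, c, hc, rfl⟩ := (SR3.mem_sup_of_nm n1).1 hx
  have := mul_mem (conjN hu h (ind_u u s) (k _ (cmV s))) (mem_sup_right (SR3.conj_mem (SR3.nm_ce h.nm) hc))
  convert this using 1
  group

theorem noNV (h : Sat 2 u) (hm : Gm u m) : ¬ NV m := fun ⟨k1, k2, k3⟩ =>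
  let ⟨_, i⟩ := hm
  k3 (ofN h.inj i (max2 (h.loc nm_J) i.nm (nmN h.inj i k1) (memN k2 (i.mul h.inj i))))

theorem no4 (h : Sat 2 u) (hm : Gm u m) : ¬ O4 m := fun ⟨k1, k2⟩ => by
  have := Fact.mk Nat.prime_two
  obtain ⟨g, i⟩ := hm
  have i2 := i.mul h.inj i
  have c4 : g ^ 4 ∈ ce (sJ.map u) := by
    have := i2.mul h.inj i2
    rw [k1] at this
    convert this.ce using 1
    simp only [pow_succ, pow_zero]; group
  obtain ⟨k, hk, e1⟩ := (h.loc nm_J).exists_conj (P := zpowers g) (zpowers_le.2 i.nm) (by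
    rintro _ ⟨j, rfl⟩
    refine ⟨2, ?_⟩
    change (g ^ j) ^ 4 ∈ _
    rw [← zpow_natCast, ← zpow_mul, mul_comm, zpow_mul, zpow_natCast]
    exact zpow_mem c4 j)
  have e2 := e1 (SR3.conj_mem_cj k (mem_zpowers g))
  obtain ⟨t, it⟩ := exists_ind h.inj (mul_mem (mul_mem hk i.nm) (inv_mem hk))
  have q : ∀ v ∈ V4, cmp v v = 0x8421 := by decide
  have e3 := it.mul h.inj it
  rw [q _ (ofN h.inj it e2)] at e3
  have e4 := SR3.conj_mem (SR3.nm_ce (inv_mem hk)) e3.ce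
  exact k2 (i2.uniq h.inj (ind_ce (by convert e4 using 1; group)))

theorem invs' (h : Sat 2 u) (hm : Gm u m) (h2 : cmp m m = 0x8421) : m ∈ V4 ∨ m ∈ T5 ∨ m ∈ TS := by
  have a : Gm u 0xa521 := gV (by decide)
  have c : Gm u 0xc431 := gV (by decide)
  rcases invs hm.choose_spec.lt h2 with k | k | k | k | ⟨v, hv, k⟩ | k
  exacts [.inl k, .inr (.inl k), .inr (.inr k), (noNV h hm k).elim, (no4 h (hm.mul h.inj (gV hv)) k).elim,
    (no4 h (((hm.mul h.inj a).mul h.inj (hm.mul h.inj a)).mul h.inj (hm.mul h.inj c)) k).elim]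

theorem id_cmp' (h : m < 65536) : cmp 0x8421 m = m := by
  rw [cmp_eq', ap_id _ (ap_lt _ _), ap_id _ (ap_lt _ _), ap_id _ (ap_lt _ _), ap_id _ (ap_lt _ _), pk_ap h]

/-- the Frattini argument -/
theorem upper (h : Sat 2 u) {K : List ℕ} (sy : Sy K) (hK : ∀ k ∈ K, Gm u k)
    (hT : ∀ t, Gm u t → t ∈ V4 ∨ t ∈ T5 ∨ t ∈ TS → t ∈ K) (hm : Gm u m) :
    ∃ l ∈ K, ∃ n ∈ A4, Gm u n ∧ m = cmp l n := by
  obtain ⟨g, i⟩ := hm
  have hu := h.inj
  have ia : Ind u (u (e 16)) 0xa521 := ind_u u (e 16)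
  have ic : Ind u (u (e 32)) 0xc431 := ind_u u (e 32)
  have i1 : Ind u (1 : G) 0x8421 := ind_ce (one_mem _)
  have key : ∀ {s : H} {v : ℕ}, Ind u (u s) v → s * s = 1 → v ≠ 0x8421 → ∃ t, Ind u (g * u s * g⁻¹) t ∧ t ∈ K ∧
      cmp t t = 0x8421 ∧ t ≠ 0x8421 := fun {s v} is s2 v1 => by
    obtain ⟨t, it⟩ := exists_ind hu (mul_mem (mul_mem i.nm is.nm) (inv_mem i.nm))
    have t2 : cmp t t = 0x8421 := (it.mul hu it).uniq hu (by
      rw [show g * u s * g⁻¹ * (g * u s * g⁻¹) = g * u (s * s) * g⁻¹ by rw [map_mul]; group, s2, map_one, mul_one,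
        mul_inv_cancel]
      exact i1)
    refine ⟨t, it, hT t ⟨_, it⟩ (invs' h ⟨_, it⟩ t2), t2, fun k => v1 (is.uniq hu (ind_ce ?_))⟩
    have := SR3.conj_mem (SR3.nm_ce (inv_mem i.nm)) (k ▸ it).ce
    convert this using 1
    group
  obtain ⟨t, it, t1, t2, t3⟩ := key ia (by decide +kernel) (by decide)
  obtain ⟨s, is, s1, s2, s3⟩ := key ic (by decide +kernel) (by decide)
  have ac : e 16 * e 32 = e 32 * e 16 := by decide +kernel
  obtain ⟨k, hk, k1, k2, l, hl, k3⟩ := sy t t1 t2 t3 s s1 s2 s3 (fun k => by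
      have := SR3.conj_mem (SR3.nm_ce (inv_mem i.nm)) (ce2 it (k ▸ is))
      have e1 : Ind u (u ((e 16)⁻¹ * e 32)) 0x8421 := ind_ce (by
        convert this using 1
        rw [map_mul, map_inv]; group)
      exact absurd (e1.uniq hu (ind_u u _)) (by decide +kernel))
    ((it.mul hu is).uniq hu (by
      rw [show g * u (e 16) * g⁻¹ * (g * u (e 32) * g⁻¹) = g * u (e 16 * e 32) * g⁻¹ by rw [map_mul]; group, ac,
        show g * u (e 32 * e 16) * g⁻¹ = g * u (e 32) * g⁻¹ * (g * u (e 16) * g⁻¹) by rw [map_mul]; group]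
      exact is.mul hu it))
  obtain ⟨k', ik⟩ := hK k hk
  obtain ⟨l', il⟩ := hK l hl
  have iN := ik.mul hu i
  have cv : ∀ {x : H} {v t : ℕ}, Ind u (u x) v → Ind u (g * u x * g⁻¹) t → CV k t → CV (cmp k m) v :=
    fun {x v t} ix it ⟨w, hw, ew⟩ => by
      obtain ⟨y, iy⟩ := indV (u := u) w hw
      refine ⟨w, hw, ?_⟩
      have a1 := (ik.mul hu it).mul hu i
      rw [ew, show k' * (g * u x * g⁻¹) * g = k' * g * u x by group] at a1
      rw [(iN.mul hu ix).uniq hu a1]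
      exact ((iy.mul hu ik).mul hu i).uniq hu (mul_assoc (u y) k' g ▸ iy.mul hu iN)
  have ns : NS (cmp k m) := fun x hx k => by
    have := iN.eq x hx
    rw [k, show e 0 = 1 from rfl, map_one, mul_inv_eq_one, mul_eq_left, map_eq_one_iff _ hu] at this
    exact e_inj hx (by norm_num) this
  have gn : Gm u (cmp k m) := ⟨_, iN⟩
  refine ⟨l, hl, _, ((nrm iN.lt (cv ia it k1) (cv ic is k2) ns).resolve_right fun q => q.elim (noNV h gn)
    (noNV h (gn.mul hu (gn.mul hu gn)))), gn, ?_⟩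
  have a1 := (il.mul hu ik).mul hu i
  rw [k3, id_cmp' i.lt, mul_assoc] at a1
  exact a1.uniq hu (il.mul hu iN)

theorem gK {S : List ℕ} (hu : Function.Injective u) (hS : ∀ x ∈ S, Gm u x) {ps : List (ℕ × ℕ)} {k : ℕ}
    (hk : k ∈ grow ps S) : Gm u k := grow_spec (fun _ _ => Gm.mul hu) ps S hS k hk

theorem gK1 (hu : Function.Injective u) (a1 : Gm u r1) (a2 : Gm u r2) : ∀ k ∈ K1, Gm u k := fun k hk =>
  gK hu (List.forall_mem_cons.2 ⟨a1, List.forall_mem_cons.2 ⟨a2, fun _ => gV⟩⟩) (gen1 k hk)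

theorem gK2 (hu : Function.Injective u) (a1 : Gm u t5) : ∀ k ∈ K2, Gm u k := fun k hk =>
  gK hu (List.forall_mem_cons.2 ⟨a1, fun _ => gV⟩) (gen2 k hk)

theorem gK3 (hu : Function.Injective u) (a1 : Gm u r1) : ∀ k ∈ K3, Gm u k := fun k hk =>
  gK hu (List.forall_mem_cons.2 ⟨a1, fun _ => gV⟩) (gen3 k hk)

theorem tw {p : ℕ × ℕ × ℕ} (hp : p ∈ NL) (hu : Function.Injective u) :
    ∃ β : H ≃* H, ∀ m, Gm u m → Gm (u.comp β.toMonoidHom) (cj p.2.1 m p.1) := by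
  obtain ⟨b1, b2, b3, b4, b5⟩ := bt_ok p hp
  let f : H →* H := PM.homOf (bt p.1 p.2.2) b1 b2
  have hf : Function.Injective f := (injective_iff_map_eq_one f).2 b3
  refine ⟨MulEquiv.ofBijective f ⟨hf, Finite.injective_iff_surjective.1 hf⟩, fun m ⟨g, i⟩ => ⟨g, ?_⟩⟩
  refine ind_of (fun _ _ k => hf (hu k)) (f := fun x => ap p.2.1 (ap m (ap p.1 x))) (fun _ _ => ap_lt _ _) fun x hx => ?_
  change g * u (bt p.1 p.2.2 (e x)) * g⁻¹ = u (bt p.1 p.2.2 (e _))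
  rw [b4 x hx, b4 _ (ap_lt _ _), b5 _ (ap_lt _ _), i.eq _ (ap_lt _ _)]

/-- the alternatives -/
def Alt (u : H →* G) : Prop := (Gm u r1 ∧ Gm u r2) ∨ Gm u t5 ∨ ∀ m, Gm u m → m ∈ K3

theorem alt5 (hu : Function.Injective u) {t : ℕ} (ht : t ∈ T5) (g : Gm u t) :
    ∃ β : H ≃* H, Alt (u.comp β.toMonoidHom) := by
  obtain ⟨p, hp, e1⟩ := (up5 t ht).2.2
  obtain ⟨β, hβ⟩ := tw hp hu
  exact ⟨β, .inr (.inl (e1 ▸ hβ t g))⟩

theorem alt1 (h : Sat 2 u) (a1 : Gm u r1) : ∃ β : H ≃* H, Alt (u.comp β.toMonoidHom) := by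
  have hu := h.inj
  by_cases h5 : ∃ t ∈ T5, Gm u t
  · obtain ⟨t, ht, g⟩ := h5
    exact alt5 hu ht g
  by_cases h2 : ∃ b ∈ Rh, Gm u b ∧ b ≠ r1 ∧ b ≠ cmp r1 r1
  · obtain ⟨b, hb, g, b1, b2⟩ := h2
    rcases (rh b hb).2 with k | k | ⟨v, hv, k⟩ | ⟨p, hp, k⟩
    · exact absurd k b1
    · exact absurd k b2
    · exact (no4 h ((a1.mul hu g).mul hu (gV hv)) k).elim
    obtain ⟨β, hβ⟩ := tw hp hu
    have hu' := (h.tw β).inj
    have x := hβ _ a1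
    have y := hβ _ g
    refine ⟨β, .inl ?_⟩
    rcases k with ⟨k1, k2 | k2⟩ | ⟨k1, k2 | k2⟩
    exacts [⟨k1 ▸ x, k2 ▸ y⟩, ⟨k1 ▸ x, k2 ▸ y.mul hu' y⟩, ⟨k1 ▸ y, k2 ▸ x⟩, ⟨k1 ▸ y, k2 ▸ x.mul hu' x⟩]
  refine ⟨MulEquiv.refl _, .inr (.inr fun m (hm : Gm u m) => ?_)⟩
  obtain ⟨l, hl, n, hn, gn, rfl⟩ := upper h sy3 (gK3 hu a1) (fun t g k => by
    rcases k with k | k | k
    · exact (cl t k).2.2.1
    · exact absurd ⟨t, k, g⟩ h5
    · refine (upS t k).2.2.2.resolve_right fun ⟨v, hv, k⟩ => h2 ⟨_, k.1, ?_, k.2⟩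
      exact (g.mul hu (gV hv)).mul hu (g.mul hu (gV hv))) hm
  refine (cl n ((a41 n hn).2.1.resolve_right fun k => h2 ⟨_, k.1, ?_, k.2⟩)).2.2.2.2 l hl
  exact gn.mul hu (a1.mul hu (gn.mul hu gn))

end Up

open Up UpA

/-- the group generated by `r1, r2` and `Aut_H(J)` is maximal -/
theorem up1 {G' : Type*} [Group G'] [Finite G'] {u' : H →* G'} (h : Sat 2 u) (h' : Sat 2 u') (a1 : Gm u r1)
    (a2 : Gm u r2) (b1 : Gm u' r1) (b2 : Gm u' r2) {m : ℕ} (hm : Gm u m) : Gm u' m := by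
  have hu := h.inj
  have gk := gK1 hu a1 a2
  obtain ⟨l, hl, n, hn, gn, rfl⟩ := upper h sy1 gk (fun t g k => by
    rcases k with k | k | k
    · exact (cl t k).1
    · obtain ⟨k, hk, o⟩ := (up5 t k).2.1
      exact (no4 h (g.mul hu (gk k hk)) o).elim
    · exact (upS t k).1.resolve_right fun ⟨k, hk, o⟩ => no4 h (g.mul hu (gk k hk)) o) hm
  exact gK1 h'.inj b1 b2 _ ((cl n ((a41 n hn).1.resolve_right fun ⟨k, hk, o⟩ =>
    no4 h (gn.mul hu (gk k hk)) o)).2.2.2.1 l hl)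

/-- the group generated by `t5` and `Aut_H(J)` is maximal -/
theorem up2 {G' : Type*} [Group G'] [Finite G'] {u' : H →* G'} (h : Sat 2 u) (h' : Sat 2 u') (a1 : Gm u t5)
    (b1 : Gm u' t5) {m : ℕ} (hm : Gm u m) : Gm u' m := by
  have hu := h.inj
  have gk := gK2 hu a1
  obtain ⟨l, hl, n, hn, -, rfl⟩ := upper h sy2 gk (fun t g k => by
    rcases k with k | k | k
    · exact (cl t k).2.1
    · exact (up5 t k).1.resolve_right fun ⟨k, hk, o⟩ => no4 h (g.mul hu (gk k hk)) o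
    · obtain ⟨k, hk, o⟩ := (upS t k).2.1
      exact (no4 h (g.mul hu (gk k hk)) o).elim) hm
  exact gK2 h'.inj b1 _ ((a41 n hn).2.2.1 l hl)

theorem js (h : Sat 2 u) : (∀ m, Gm u m → ap m 1 = 1) ∨ ∃ β : H ≃* H,
    (Gm (u.comp β.toMonoidHom) r1 ∧ Gm (u.comp β.toMonoidHom) r2) ∨ Gm (u.comp β.toMonoidHom) t5 ∨
      ∀ m, Gm (u.comp β.toMonoidHom) m → m ∈ K3 := by
  have hu := h.inj
  by_cases h5 : ∃ t ∈ T5, Gm u t
  · obtain ⟨t, ht, g⟩ := h5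
    exact .inr (alt5 hu ht g)
  by_cases h2 : ∃ b ∈ Rh, Gm u b
  · obtain ⟨b, hb, g⟩ := h2
    obtain ⟨p, hp, e1⟩ := (rh b hb).1
    obtain ⟨β, hβ⟩ := tw hp hu
    obtain ⟨γ, hγ⟩ := alt1 (h.tw β) (e1 ▸ hβ b g)
    exact .inr ⟨γ.trans β, hγ⟩
  refine .inl fun m hm => ?_
  obtain ⟨l, hl, n, hn, -, rfl⟩ := upper h sy0 (fun _ => gV) (fun t g k => by
    rcases k with k | k | k
    · exact k
    · exact absurd ⟨t, k, g⟩ h5
    · obtain ⟨v, hv, k⟩ := (upS t k).2.2.1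
      exact absurd ⟨_, k, (g.mul hu (gV hv)).mul hu (g.mul hu (gV hv))⟩ h2) hm
  exact (a41 n hn).2.2.2 l hl

end Cfsg.Agent.U42F
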