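import Cfsg.Agent.U42F.Defs

/-! Project U42F: finite checks for the automizer of `J`. -/

set_option autoImplicit false
set_option linter.unusedSectionVars false

namespace Cfsg.Agent.U42F

open FK DIH
open H14 (allN allN_iff beq_iff force force_eq)

namespace UpA

def T5 : List ℕ := [nat_lit 0x1bd8, nat_lit 0x1de8, nat_lit 0x1eb8, nat_lit 0x278b, nat_lit 0x346e, nat_lit 0x3f5d,
  nat_lit 0x487d, nat_lit 0x53fb, nat_lit 0x562e, nat_lit 0x64cb, nat_lit 0x6a2d, nat_lit 0x724e, nat_lit 0x824f,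
  nat_lit 0x879a, nat_lit 0x897c, nat_lit 0x8ac9, nat_lit 0x8cf9, nat_lit 0x8fa9, nat_lit 0xa62f, nat_lit 0xab2c,
  nat_lit 0xc46f, nat_lit 0xc4da, nat_lit 0xf3ea, nat_lit 0xfe5c]
def TS : List ℕ := [nat_lit 0x1248, nat_lit 0x17b8, nat_lit 0x1d78, nat_lit 0x2184, nat_lit 0x238c, nat_lit 0x248f,
  nat_lit 0x2d8b, nat_lit 0x2e87, nat_lit 0x31c4, nat_lit 0x39f7, nat_lit 0x4812, nat_lit 0x482f, nat_lit 0x485a,
  nat_lit 0x48bd, nat_lit 0x48e7, nat_lit 0x5a12, nat_lit 0x5f97, nat_lit 0x6194, nat_lit 0x6912, nat_lit 0x71d4,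
  nat_lit 0x746a, nat_lit 0x762c, nat_lit 0x7b12, nat_lit 0x7dbe, nat_lit 0x8249, nat_lit 0x84a5, nat_lit 0x84e5,
  nat_lit 0x87a9, nat_lit 0x89ac, nat_lit 0x8ba6, nat_lit 0x8c23, nat_lit 0x8c79, nat_lit 0x8c9a, nat_lit 0x8caf,
  nat_lit 0x8cd6, nat_lit 0x8e23, nat_lit 0xa62d, nat_lit 0xa92e, nat_lit 0xad23, nat_lit 0xaf23, nat_lit 0xc46b,
  nat_lit 0xc49e, nat_lit 0xc4b5, nat_lit 0xc4f5, nat_lit 0xf39d, nat_lit 0xf95b, nat_lit 0xfab6, nat_lit 0xfdc6]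
def Rh : List ℕ := [nat_lit 0x21a5, nat_lit 0x2da6, nat_lit 0x4c13, nat_lit 0x4cb6, nat_lit 0x71b5, nat_lit 0x7d13,
  nat_lit 0xa584, nat_lit 0xa987, nat_lit 0xc832, nat_lit 0xc897, nat_lit 0xf594, nat_lit 0xf932]
def K1 : List ℕ := [nat_lit 0x1248, nat_lit 0x125a, nat_lit 0x134c, nat_lit 0x135f, nat_lit 0x2184, nat_lit 0x21a5,
  nat_lit 0x238c, nat_lit 0x23af, nat_lit 0x31c4, nat_lit 0x31f5, nat_lit 0x32c8, nat_lit 0x32fa, nat_lit 0x4812,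
  nat_lit 0x485a, nat_lit 0x4c13, nat_lit 0x4c5f, nat_lit 0x5a12, nat_lit 0x5a48, nat_lit 0x5f13, nat_lit 0x5f4c,
  nat_lit 0x8421, nat_lit 0x84a5, nat_lit 0x8c23, nat_lit 0x8caf, nat_lit 0xa521, nat_lit 0xa584, nat_lit 0xaf23,
  nat_lit 0xaf8c, nat_lit 0xc431, nat_lit 0xc4f5, nat_lit 0xc832, nat_lit 0xc8fa, nat_lit 0xf531, nat_lit 0xf5c4,
  nat_lit 0xfa32, nat_lit 0xfac8]
def K2 : List ℕ := [nat_lit 0x19bc, nat_lit 0x19df, nat_lit 0x19ea, nat_lit 0x1b9f, nat_lit 0x1bd8, nat_lit 0x1bec,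
  nat_lit 0x1d9a, nat_lit 0x1dbf, nat_lit 0x1de8, nat_lit 0x1e9c, nat_lit 0x1eb8, nat_lit 0x1eda, nat_lit 0x824f,
  nat_lit 0x8271, nat_lit 0x829c, nat_lit 0x8421, nat_lit 0x847a, nat_lit 0x849f, nat_lit 0x872c, nat_lit 0x8741,
  nat_lit 0x879a, nat_lit 0x892f, nat_lit 0x894a, nat_lit 0x897c, nat_lit 0xa25c, nat_lit 0xa261, nat_lit 0xa2bf,
  nat_lit 0xa521, nat_lit 0xa568, nat_lit 0xa5bc, nat_lit 0xa62f, nat_lit 0xa651, nat_lit 0xa6b8, nat_lit 0xab2c,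
  nat_lit 0xab58, nat_lit 0xab6f, nat_lit 0xc34a, nat_lit 0xc361, nat_lit 0xc3d8, nat_lit 0xc431, nat_lit 0xc46f,
  nat_lit 0xc4da, nat_lit 0xc638, nat_lit 0xc641, nat_lit 0xc6df, nat_lit 0xcd3a, nat_lit 0xcd4f, nat_lit 0xcd68,
  nat_lit 0xf358, nat_lit 0xf371, nat_lit 0xf3ea, nat_lit 0xf531, nat_lit 0xf57c, nat_lit 0xf5e8, nat_lit 0xf73a,
  nat_lit 0xf751, nat_lit 0xf7ec, nat_lit 0xfe38, nat_lit 0xfe5c, nat_lit 0xfe7a]
def A4 : List ℕ := [nat_lit 0x8271, nat_lit 0x8421, nat_lit 0x8741, nat_lit 0xa261, nat_lit 0xa521, nat_lit 0xa651,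
  nat_lit 0xc361, nat_lit 0xc431, nat_lit 0xc641, nat_lit 0xf371, nat_lit 0xf531, nat_lit 0xf751]
def NL : List (ℕ × ℕ × ℕ) := [(nat_lit 0x8241, nat_lit 0x8241, nat_lit 216), (nat_lit 0x8271, nat_lit 0x8741,
  nat_lit 156), (nat_lit 0x8421, nat_lit 0x8421, nat_lit 228), (nat_lit 0x8471, nat_lit 0x8471, nat_lit 108), (nat_lit
  0x8721, nat_lit 0x8721, nat_lit 180), (nat_lit 0x8741, nat_lit 0x8271, nat_lit 120), (nat_lit 0x9241, nat_lit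
  0x9241, nat_lit 216), (nat_lit 0x9271, nat_lit 0x9741, nat_lit 156), (nat_lit 0x9421, nat_lit 0x9421, nat_lit 228),
  (nat_lit 0x9471, nat_lit 0x9471, nat_lit 108), (nat_lit 0x9721, nat_lit 0x9721, nat_lit 180), (nat_lit 0x9741,
  nat_lit 0x9271, nat_lit 120), (nat_lit 0xa251, nat_lit 0xc341, nat_lit 216), (nat_lit 0xa261, nat_lit 0xc641,
  nat_lit 156), (nat_lit 0xa521, nat_lit 0xa521, nat_lit 228), (nat_lit 0xa561, nat_lit 0xf571, nat_lit 108), (nat_lit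
  0xa621, nat_lit 0xa621, nat_lit 180), (nat_lit 0xa651, nat_lit 0xf371, nat_lit 120), (nat_lit 0xb251, nat_lit
  0xd341, nat_lit 216), (nat_lit 0xb261, nat_lit 0xd641, nat_lit 156), (nat_lit 0xb521, nat_lit 0xb521, nat_lit 228),
  (nat_lit 0xb561, nat_lit 0xe571, nat_lit 108), (nat_lit 0xb621, nat_lit 0xb621, nat_lit 180), (nat_lit 0xb651,
  nat_lit 0xe371, nat_lit 120), (nat_lit 0xc341, nat_lit 0xa251, nat_lit 216), (nat_lit 0xc361, nat_lit 0xf751,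
  nat_lit 156), (nat_lit 0xc431, nat_lit 0xc431, nat_lit 228), (nat_lit 0xc461, nat_lit 0xc461, nat_lit 108), (nat_lit
  0xc631, nat_lit 0xf731, nat_lit 180), (nat_lit 0xc641, nat_lit 0xa261, nat_lit 120), (nat_lit 0xd341, nat_lit
  0xb251, nat_lit 216), (nat_lit 0xd361, nat_lit 0xe751, nat_lit 156), (nat_lit 0xd431, nat_lit 0xd431, nat_lit 228),
  (nat_lit 0xd461, nat_lit 0xd461, nat_lit 108), (nat_lit 0xd631, nat_lit 0xe731, nat_lit 180), (nat_lit 0xd641,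
  nat_lit 0xb261, nat_lit 120), (nat_lit 0xe351, nat_lit 0xe351, nat_lit 216), (nat_lit 0xe371, nat_lit 0xb651,
  nat_lit 156), (nat_lit 0xe531, nat_lit 0xe531, nat_lit 228), (nat_lit 0xe571, nat_lit 0xb561, nat_lit 108), (nat_lit
  0xe731, nat_lit 0xd631, nat_lit 180), (nat_lit 0xe751, nat_lit 0xd361, nat_lit 120), (nat_lit 0xf351, nat_lit
  0xf351, nat_lit 216), (nat_lit 0xf371, nat_lit 0xa651, nat_lit 156), (nat_lit 0xf531, nat_lit 0xf531, nat_lit 228),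
  (nat_lit 0xf571, nat_lit 0xa561, nat_lit 108), (nat_lit 0xf731, nat_lit 0xc631, nat_lit 180), (nat_lit 0xf751,
  nat_lit 0xc361, nat_lit 120)]
def g1 : List (ℕ × ℕ) := [(nat_lit 0xa521, nat_lit 0xa584), (nat_lit 0xa521, nat_lit 0xc832), (nat_lit 0xc431,
  nat_lit 0xa584), (nat_lit 0xc431, nat_lit 0xc832), (nat_lit 0xf531, nat_lit 0xa584), (nat_lit 0xf531, nat_lit
  0xc832), (nat_lit 0xa584, nat_lit 0xa521), (nat_lit 0xa584, nat_lit 0xf531), (nat_lit 0xa584, nat_lit 0xa584),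
  (nat_lit 0xa584, nat_lit 0xc832), (nat_lit 0xc832, nat_lit 0xc431), (nat_lit 0xc832, nat_lit 0xf531), (nat_lit
  0xc832, nat_lit 0xc832), (nat_lit 0x84a5, nat_lit 0xf531), (nat_lit 0x84a5, nat_lit 0xc832), (nat_lit 0xfa32,
  nat_lit 0xc832), (nat_lit 0xf5c4, nat_lit 0xc832), (nat_lit 0xc4f5, nat_lit 0xc832), (nat_lit 0x2184, nat_lit
  0xc832), (nat_lit 0x31c4, nat_lit 0xc832), (nat_lit 0x21a5, nat_lit 0xc832), (nat_lit 0xfac8, nat_lit 0xc431),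
  (nat_lit 0xfac8, nat_lit 0xf531), (nat_lit 0xfac8, nat_lit 0xc832), (nat_lit 0x5a12, nat_lit 0xa584), (nat_lit
  0x31f5, nat_lit 0xc832), (nat_lit 0xc8fa, nat_lit 0xf531), (nat_lit 0xc8fa, nat_lit 0xc832), (nat_lit 0xaf8c,
  nat_lit 0xf531), (nat_lit 0x8caf, nat_lit 0xf531)]
def g2 : List (ℕ × ℕ) := [(nat_lit 0xa521, nat_lit 0x1bd8), (nat_lit 0xc431, nat_lit 0x1bd8), (nat_lit 0xf531,
  nat_lit 0x1bd8), (nat_lit 0x1bd8, nat_lit 0xa521), (nat_lit 0x1bd8, nat_lit 0xc431), (nat_lit 0x1bd8, nat_lit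
  0xf531), (nat_lit 0x19ea, nat_lit 0xa521), (nat_lit 0x19ea, nat_lit 0xc431), (nat_lit 0x19ea, nat_lit 0xf531),
  (nat_lit 0x1e9c, nat_lit 0xa521), (nat_lit 0x1e9c, nat_lit 0xc431), (nat_lit 0x1e9c, nat_lit 0xf531), (nat_lit
  0x1dbf, nat_lit 0xa521), (nat_lit 0x1dbf, nat_lit 0xc431), (nat_lit 0x1dbf, nat_lit 0xf531), (nat_lit 0xc3d8,
  nat_lit 0x1bd8), (nat_lit 0xab58, nat_lit 0x1bd8), (nat_lit 0xf3ea, nat_lit 0x1bd8), (nat_lit 0x894a, nat_lit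
  0x1bd8), (nat_lit 0x829c, nat_lit 0x1bd8), (nat_lit 0xfe5c, nat_lit 0x1bd8), (nat_lit 0xa2bf, nat_lit 0x1bd8),
  (nat_lit 0xcd4f, nat_lit 0x1bd8), (nat_lit 0x897c, nat_lit 0xa521), (nat_lit 0x897c, nat_lit 0xc431), (nat_lit
  0x897c, nat_lit 0xf531), (nat_lit 0x879a, nat_lit 0xa521), (nat_lit 0x879a, nat_lit 0xc431), (nat_lit 0x879a,
  nat_lit 0xf531), (nat_lit 0xab6f, nat_lit 0xa521), (nat_lit 0xab6f, nat_lit 0xc431), (nat_lit 0xab6f, nat_lit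
  0xf531), (nat_lit 0xa6b8, nat_lit 0xa521), (nat_lit 0xa6b8, nat_lit 0xc431), (nat_lit 0xa6b8, nat_lit 0xf531),
  (nat_lit 0xcd68, nat_lit 0xa521), (nat_lit 0xcd68, nat_lit 0xc431), (nat_lit 0xcd68, nat_lit 0xf531), (nat_lit
  0xc6df, nat_lit 0xa521), (nat_lit 0xc6df, nat_lit 0xc431), (nat_lit 0xc6df, nat_lit 0xf531), (nat_lit 0xfe7a,
  nat_lit 0xa521), (nat_lit 0xfe7a, nat_lit 0xc431), (nat_lit 0xfe7a, nat_lit 0xf531), (nat_lit 0xf7ec, nat_lit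
  0xa521), (nat_lit 0xf7ec, nat_lit 0xc431), (nat_lit 0xf7ec, nat_lit 0xf531), (nat_lit 0x19bc, nat_lit 0x1bd8),
  (nat_lit 0x1d9a, nat_lit 0x1bd8), (nat_lit 0x1b9f, nat_lit 0x1bd8), (nat_lit 0x1eb8, nat_lit 0x1bd8), (nat_lit
  0x1de8, nat_lit 0x1bd8), (nat_lit 0x19df, nat_lit 0x1bd8), (nat_lit 0x1eda, nat_lit 0x1bd8), (nat_lit 0x1bec,
  nat_lit 0x1bd8)]
def g3 : List (ℕ × ℕ) := [(nat_lit 0xa521, nat_lit 0xa584), (nat_lit 0xc431, nat_lit 0xa584), (nat_lit 0xf531,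
  nat_lit 0xa584), (nat_lit 0xa584, nat_lit 0xa521), (nat_lit 0xa584, nat_lit 0xf531), (nat_lit 0xa584, nat_lit
  0xa584), (nat_lit 0x84a5, nat_lit 0xf531)]

/-- `Aut_H(J)` -/
def V4 : List ℕ := [nat_lit 0x8421, nat_lit 0xa521, nat_lit 0xc431, nat_lit 0xf531]
/-- the involutions outside `Aut_H(J)` that centralize it -/
def B4 : List ℕ := [nat_lit 0x9421, nat_lit 0xb521, nat_lit 0xd431, nat_lit 0xe531]

/-- order four -/
def O4 (x : ℕ) : Prop := cmp (cmp x x) (cmp x x) = 0x8421 ∧ cmp x x ≠ 0x8421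

instance (x : ℕ) : Decidable (O4 x) := inferInstanceAs (Decidable (_ ∧ _))

/-- a 2-element outside `Aut_H(J)` that normalizes it -/
def NV (x : ℕ) : Prop := (∀ v ∈ V4, ∃ w ∈ V4, cmp x v = cmp w x) ∧ cmp x x ∈ V4 ∧ x ∉ V4

instance (x : ℕ) : Decidable (NV x) := inferInstanceAs (Decidable (_ ∧ _))

/-- conjugation -/
def cj (n' m n : ℕ) : ℕ := pk (ap n' (ap m (ap n 1))) (ap n' (ap m (ap n 2))) (ap n' (ap m (ap n 4)))
  (ap n' (ap m (ap n 8)))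

/-- a test for all matrices -/
noncomputable def allM (f : ℕ → Bool) : Bool := allN (nat_lit 256) fun a => allN (nat_lit 256) fun b =>
  force (Nat.add (Nat.mul a (nat_lit 256)) b) f

theorem allM_spec {f : ℕ → Bool} (h : allM f = true) {m : ℕ} (hm : m < 65536) : f m = true := by
  have := allN_iff.1 (allN_iff.1 h (m / 256) (show m / 256 < 256 by omega)) (m % 256) (show m % 256 < 256 by omega)
  rw [force_eq] at this
  rwa [show Nat.add (Nat.mul (m / 256) (nat_lit 256)) (m % 256) = m from Nat.div_add_mod' m 256] at this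

theorem ap_cmp (m n : ℕ) : ap (cmp m n) 1 = ap m (ap n 1) ∧ ap (cmp m n) 8 = ap m (ap n 8) := by
  rw [cmp_eq', ap_pk (ap_lt _ _) (ap_lt _ _) (ap_lt _ _) (ap_lt _ _),
    ap_pk (ap_lt _ _) (ap_lt _ _) (ap_lt _ _) (ap_lt _ _)]
  simp

theorem invs0 : (allM fun m => Bool.rec true (Bool.rec true (decide (m ∈ V4 ∨ m ∈ T5 ∨ m ∈ TS ∨ NV m ∨
    (∃ v ∈ V4, O4 (cmp m v)) ∨ O4 (cmp (cmp (cmp m 0xa521) (cmp m 0xa521)) (cmp m 0xc431))))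
    (Nat.beq (cmp m m) (nat_lit 0x8421))) (Nat.beq (ap m (Nat.mod m (nat_lit 16))) (nat_lit 1))) = true := by
  decide +kernel

theorem invs {m : ℕ} (h : m < 65536) (h2 : cmp m m = 0x8421) : m ∈ V4 ∨ m ∈ T5 ∨ m ∈ TS ∨ NV m ∨
    (∃ v ∈ V4, O4 (cmp m v)) ∨ O4 (cmp (cmp (cmp m 0xa521) (cmp m 0xa521)) (cmp m 0xc431)) := by
  have := allM_spec invs0 h
  have e1 := (ap_cmp m m).1
  rw [h2, ap_1 m] at e1
  rw [h2, show ap m (Nat.mod m (nat_lit 16)) = 1 from e1.symm] at this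
  exact of_decide_eq_true this

/-- `m` conjugates `t` into `Aut_H(J)` -/
def CV (m t : ℕ) : Prop := ∃ v ∈ V4, cmp m t = cmp v m

instance (m t : ℕ) : Decidable (CV m t) := inferInstanceAs (Decidable (∃ v ∈ V4, _))

/-- nonsingular -/
def NS (m : ℕ) : Prop := ∀ x < 16, ap m x = 0 → x = 0

instance (m : ℕ) : Decidable (NS m) := inferInstanceAs (Decidable (∀ x < 16, _))

/-- the statement for one matrix -/
def NC (m : ℕ) : Prop := NS m → CV m 0xa521 → CV m 0xc431 → m ∈ A4 ∨ NV m ∨ NV (cmp m (cmp m m))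

instance (m : ℕ) : Decidable (NC m) := inferInstanceAs (Decidable (_ → _))

/-- a commutator with an element of `Aut_H(J)` -/
def CM (b d : ℕ) : Prop := ∃ v ∈ V4, b ^^^ d = ap v d

instance (b d : ℕ) : Decidable (CM b d) := inferInstanceAs (Decidable (∃ v ∈ V4, _))

set_option synthInstance.maxSize 4096 in
set_option synthInstance.maxHeartbeats 800000 in
theorem nrm0 : ∀ d < 16, ∀ b < 16, CM b d → ∀ c < 16, CM c d → ∀ a < 16, NC (pk a b c d) := by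
  decide +kernel

theorem nrm {m : ℕ} (h : m < 65536) (h1 : CV m 0xa521) (h2 : CV m 0xc431) (h3 : NS m) :
    m ∈ A4 ∨ NV m ∨ NV (cmp m (cmp m m)) := by
  have := nrm0 _ (ap_lt m 8) _ (ap_lt m 2) (h1.imp fun v k => ⟨k.1, by
      rw [← (ap_cmp v m).2, ← k.2, (ap_cmp _ _).2, show ap 0xa521 8 = 10 from rfl]
      simp [ap_eq]⟩) _ (ap_lt m 4) (h2.imp fun v k => ⟨k.1, by
      rw [← (ap_cmp v m).2, ← k.2, (ap_cmp _ _).2, show ap 0xc431 8 = 12 from rfl]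
      simp [ap_eq]⟩) _ (ap_lt m 1)
  rw [pk_ap h] at this
  exact this h3 h1 h2

theorem up5 : ∀ t ∈ T5, (t ∈ K2 ∨ ∃ k ∈ K2, O4 (cmp t k)) ∧ (∃ k ∈ K1, O4 (cmp t k)) ∧
    ∃ p ∈ NL, cj p.2.1 t p.1 = t5 := by decide +kernel

theorem upS : ∀ t ∈ TS, (t ∈ K1 ∨ ∃ k ∈ K1, O4 (cmp t k)) ∧ (∃ k ∈ K2, O4 (cmp t k)) ∧
    (∃ v ∈ V4, cmp (cmp t v) (cmp t v) ∈ Rh) ∧ (t ∈ K3 ∨ ∃ v ∈ V4, cmp (cmp t v) (cmp t v) ∈ Rh ∧
      cmp (cmp t v) (cmp t v) ≠ r1 ∧ cmp (cmp t v) (cmp t v) ≠ cmp r1 r1) := by decide +kernel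

/-- the Klein four-groups of `K` are conjugate -/
def Sy (K : List ℕ) : Prop := ∀ t ∈ K, cmp t t = 0x8421 → t ≠ 0x8421 → ∀ s ∈ K, cmp s s = 0x8421 → s ≠ 0x8421 →
  t ≠ s → cmp t s = cmp s t → ∃ k ∈ K, CV k t ∧ CV k s ∧ ∃ l ∈ K, cmp l k = 0x8421

theorem sy0 : Sy V4 := by unfold Sy; decide +kernel
theorem sy1 : Sy K1 := by unfold Sy; decide +kernel
theorem sy2 : Sy K2 := by unfold Sy; decide +kernel
theorem sy3 : Sy K3 := by unfold Sy; decide +kernel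

theorem a41 : ∀ n ∈ A4, (n ∈ V4 ∨ ∃ k ∈ K1, O4 (cmp n k)) ∧ (n ∈ V4 ∨ (cmp n (cmp r1 (cmp n n)) ∈ Rh ∧
    cmp n (cmp r1 (cmp n n)) ≠ r1 ∧ cmp n (cmp r1 (cmp n n)) ≠ cmp r1 r1)) ∧ (∀ l ∈ K2, cmp l n ∈ K2) ∧
    ∀ l ∈ V4, ap (cmp l n) 1 = 1 := by decide +kernel

theorem cl : ∀ n ∈ V4, n ∈ K1 ∧ n ∈ K2 ∧ n ∈ K3 ∧ (∀ l ∈ K1, cmp l n ∈ K1) ∧ ∀ l ∈ K3, cmp l n ∈ K3 := by
  decide +kernel

theorem rh : ∀ b ∈ Rh, (∃ p ∈ NL, cj p.2.1 b p.1 = r1) ∧ (b = r1 ∨ b = cmp r1 r1 ∨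
    (∃ v ∈ V4, O4 (cmp (cmp r1 b) v)) ∨ ∃ p ∈ NL,
      (cj p.2.1 r1 p.1 = r1 ∧ (cj p.2.1 b p.1 = r2 ∨ cmp (cj p.2.1 b p.1) (cj p.2.1 b p.1) = r2)) ∨
      (cj p.2.1 b p.1 = r1 ∧ (cj p.2.1 r1 p.1 = r2 ∨ cmp (cj p.2.1 r1 p.1) (cj p.2.1 r1 p.1) = r2))) := by
  decide +kernel

/-- generation by products -/
noncomputable def grow : List (ℕ × ℕ) → List ℕ → List ℕ :=
  List.rec (fun S => S) fun p _ ih S => if p.1 ∈ S ∧ p.2 ∈ S then force (cmp p.1 p.2) fun x => ih (x :: S) else []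

theorem grow_spec {P : ℕ → Prop} (h : ∀ a b, P a → P b → P (cmp a b)) (ps : List (ℕ × ℕ)) :
    ∀ S : List ℕ, (∀ x ∈ S, P x) → ∀ x ∈ grow ps S, P x := by
  induction ps with
  | nil => exact fun _ k => k
  | cons p ps ih =>
    intro S hS
    change ∀ x ∈ (if p.1 ∈ S ∧ p.2 ∈ S then force (cmp p.1 p.2) fun x => grow ps (x :: S) else []), P x
    split_ifs with k
    · rw [force_eq]
      exact ih _ (List.forall_mem_cons.2 ⟨h _ _ (hS _ k.1) (hS _ k.2), hS⟩)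
    · simp

theorem gen1 : ∀ k ∈ K1, k ∈ grow g1 (r1 :: r2 :: V4) := by decide +kernel
theorem gen2 : ∀ k ∈ K2, k ∈ grow g2 (t5 :: V4) := by decide +kernel
theorem gen3 : ∀ k ∈ K3, k ∈ grow g3 (r1 :: V4) := by decide +kernel

/-- the automorphism of the model that extends a matrix -/
noncomputable def bt (n w : ℕ) (x : H) : H :=
  e (Nat.add (Nat.mul (nat_lit 16) (Nat.mod (Nat.shiftRight w (Nat.mul (nat_lit 2) (Nat.div x.v (nat_lit 16))))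
    (nat_lit 4))) (ap n x.v))

theorem bt_ok : ∀ p ∈ NL, bt p.1 p.2.2 1 = 1 ∧
    (∀ i < 6, ∀ a, bt p.1 p.2.2 (a * e (2 ^ i)) = bt p.1 p.2.2 a * bt p.1 p.2.2 (e (2 ^ i))) ∧
    (∀ a, bt p.1 p.2.2 a = 1 → a = 1) ∧ (∀ x < 16, bt p.1 p.2.2 (e x) = e (ap p.1 x)) ∧
    ∀ x < 16, ap p.1 (ap p.2.1 x) = x := by decide +kernel

end UpA

end Cfsg.Agent.U42F
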